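import Cfsg.Agent.H20.BlockApps
import Cfsg.Agent.H22.SectionOrth
import Cfsg.Agent.H24.PrincipalQuot

/-!
# Weighted sums over 2-regular parts of a section and the principal block
-/

set_option autoImplicit false
set_option linter.unusedSectionVars false
set_option linter.style.haveILetI false

open Cfsg
open scoped ComplexConjugate

namespace H12.CSy

universe u

variable {G : Type u} [Group G] [Fintype G] {p : ℕ} {M : Ideal AlgInt}

local notation "C[" x "]" => Subgroup.centralizer ({x} : Set G)

open Classical in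
/-- A class function on the centralizer as a sum over its irreducible characters. -/
theorem weighted_sum_eq {K : Type u} [Group K] [Fintype K] {f : K → ℂ} (hf : IsClassFunction K f)
    (H : Subgroup K) [Fintype H] (ν : K → ℂ) :
    ∑ h : H, ν h * f h =
      ∑ φ : IrrCharacter K, classInner f (φ : K → ℂ) * ∑ h : H, ν h * (φ : K → ℂ) h := by
  rw [Finset.sum_congr rfl fun (h : H) _ => by
    rw [H20.classFunction_eq_sum_apply hf (h : K), Finset.mul_sum]]
  rw [Finset.sum_comm]
  refine Finset.sum_congr rfl fun φ _ => ?_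
  rw [Finset.mul_sum]
  exact Finset.sum_congr rfl fun h _ => by ring

/-- Outside the principal block, a weight killed by the other blocks of the centralizer kills the
section. -/
theorem section_sum_of_notMem (hM : IsPModular p M) {x : G} (hx : ∃ k : ℕ, orderOf x = p ^ k)
    {χ : IrrCharacter G} (hχ : χ ∉ principalBlock M G) (H : Subgroup C[x]) [Fintype C[x]]
    [Fintype H] (hH : ∀ h ∈ H, ¬ p ∣ orderOf h) (ν : C[x] → ℂ)
    (hν : ∀ φ : IrrCharacter C[x], φ ∉ principalBlock M C[x] →
      ∑ h : H, ν h * (φ : C[x] → ℂ) h = 0) :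
    ∑ h : H, ν h * (χ : G → ℂ) (x * ((h : C[x]) : G)) = 0 := by
  classical
  haveI := H20.isPrime_of_modular hM
  haveI : Fact p.Prime := ⟨hM.1⟩
  set f : C[x] → ℂ := fun c => (χ : G → ℂ) (x * (c : G)) with hfdef
  have hf : IsClassFunction C[x] f := H20.isClassFunction_shift (H12.irr_isClassFunction χ) x
  have hnot : ¬ IsInducedBlock M C[x] (principalBlock M C[x]) (blockOf M (χ : G → ℂ)) := by
    intro hind
    apply hχ
    have h2 : blockOf M (χ : G → ℂ) = principalBlock M G :=
      H20.inducedBlock_unique C[x] hind ((H22.Sub.induces_principal_iff hM hx _).2 rfl)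
    rw [← h2]
    exact H20.mem_blockOf_self χ
  have hsplit : ∀ y : C[x], f y = blockPart (principalBlock M C[x]) f y +
      ∑ φ : IrrCharacter C[x],
        if φ ∈ principalBlock M C[x] then 0 else classInner f (φ : C[x] → ℂ) * (φ : C[x] → ℂ) y := by
    intro y
    rw [H20.blockPart_eq_sum, ← Finset.sum_add_distrib, H20.classFunction_eq_sum_apply hf y]
    exact Finset.sum_congr rfl fun φ _ => by split_ifs <;> ring
  have h0 : ∀ h : H, blockPart (principalBlock M C[x]) f (h : C[x]) = 0 := fun h =>
    H20.blockPart_shift_eq_zero hM hx (H20.isPBlock_blockOf χ) (H20.mem_blockOf_self χ)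
      H20.isPBlock_principalBlock hnot _ (hH _ h.2)
  calc ∑ h : H, ν h * f h = ∑ φ : IrrCharacter C[x],
        if φ ∈ principalBlock M C[x] then 0
        else classInner f (φ : C[x] → ℂ) * ∑ h : H, ν h * (φ : C[x] → ℂ) h := by
        rw [Finset.sum_congr rfl fun (h : H) _ => by rw [hsplit (h : C[x]), h0 h, zero_add,
          Finset.mul_sum], Finset.sum_comm]
        refine Finset.sum_congr rfl fun φ _ => ?_
        split_ifs with h
        · simp
        · rw [Finset.mul_sum]
          exact Finset.sum_congr rfl fun h _ => by ring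
    _ = 0 := Finset.sum_eq_zero fun φ _ => by
      split_ifs with h
      · rfl
      · rw [hν φ h, mul_zero]

/-- Inside the principal block, a weight killed by the principal block of the centralizer kills
the section. -/
theorem section_sum_of_mem (hM : IsPModular p M) {x : G} (hx : ∃ k : ℕ, orderOf x = p ^ k)
    {χ : IrrCharacter G} (hχ : χ ∈ principalBlock M G) (H : Subgroup C[x]) [Fintype C[x]]
    [Fintype H] (hH : ∀ h ∈ H, ¬ p ∣ orderOf h) (ν : C[x] → ℂ)
    (hν : ∀ φ : IrrCharacter C[x], φ ∈ principalBlock M C[x] →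
      ∑ h : H, ν h * (φ : C[x] → ℂ) h = 0) :
    ∑ h : H, ν h * (χ : G → ℂ) (x * ((h : C[x]) : G)) = 0 := by
  classical
  haveI := H20.isPrime_of_modular hM
  rw [Finset.sum_congr rfl fun (h : H) _ => by
    rw [H20.principal_shift hM hx hχ (h : C[x]) (hH _ h.2), H20.blockPart_eq_sum, Finset.mul_sum]]
  rw [Finset.sum_comm]
  refine Finset.sum_eq_zero fun φ _ => ?_
  by_cases h : φ ∈ principalBlock M C[x]
  · simp only [if_pos h]
    rw [show (0 : ℂ) = classInner (fun c : C[x] => (χ : G → ℂ) (x * (c : G))) (φ : C[x] → ℂ) *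
      ∑ h : H, ν h * (φ : C[x] → ℂ) h by rw [hν φ h, mul_zero], Finset.mul_sum]
    exact Finset.sum_congr rfl fun h _ => by ring
  · simp [if_neg h]

/-- A normal `p`-subgroup containing its centralizer leaves a single block. -/
theorem single_block_of_selfCentral (hM : IsPModular p M) (Q : Subgroup G) [Q.Normal]
    (hQ : IsPGroup p Q) (hC : Subgroup.centralizer (Q : Set G) ≤ Q) (χ ψ : IrrCharacter G) :
    SameBlock M (χ : G → ℂ) (ψ : G → ℂ) := by
  classical
  haveI := H20.isPrime_of_modular hM
  haveI : Fact p.Prime := ⟨hM.1⟩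
  set B := blockOf M (χ : G → ℂ) with hBdef
  have hB : IsPBlock M B := H20.isPBlock_blockOf χ
  have hsupp : H20.eRed M B = (H20.eRed M B).coeff 1 • (1 : MonoidAlgebra (H20.k M) G) := by
    ext g
    rcases eq_or_ne g 1 with rfl | hg
    · simp [MonoidAlgebra.one_def]
    · have h0 : (H20.eRed M B).coeff g = 0 := by
        by_contra hne
        have hgC : g ∈ Subgroup.centralizer (Q : Set G) := by_contra fun h' =>
          hne (by rw [← H20.coeff_eRed_of_notMem_centralizer hM hQ hB, H20.coeff_br_of_notMem _ h'])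
        obtain ⟨j, hj⟩ := IsPGroup.iff_orderOf.1 hQ ⟨g, hC hgC⟩
        rw [Subgroup.orderOf_mk] at hj
        have hreg := H20.regular_of_coeff_ne_zero hM hB hne
        rw [hj] at hreg
        apply hg
        rw [← orderOf_eq_one_iff, hj]
        rcases Nat.eq_zero_or_pos j with rfl | hj0
        · simp
        · exact absurd (dvd_pow_self p hj0.ne') hreg
      simp [h0, MonoidAlgebra.one_def, Ne.symm hg]
  have h1 := H20.lam_eRed hB χ
  rw [hsupp, H20.lam_smul, H20.lam_one, mul_one, if_pos (H20.mem_blockOf_self χ)] at h1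
  have h2 := H20.lam_eRed hB ψ
  rw [hsupp, H20.lam_smul, H20.lam_one, mul_one, h1] at h2
  by_contra hψ
  rw [if_neg (show ψ ∉ B from hψ)] at h2
  exact one_ne_zero h2

/-- A `p'`-normal subgroup below a self-centralising extension by a `p`-group: only the principal
block is nonzero on it. -/
theorem sum_eq_zero_of_notMem (hM : IsPModular p M) (O W : Subgroup G) [O.Normal] [W.Normal]
    (hOp : ¬ p ∣ Nat.card O) (hOW : O ≤ W) (hidx : ∃ k : ℕ, O.relIndex W = p ^ k)
    (hself : ∀ g : G, (∀ w ∈ W, g * w * g⁻¹ * w⁻¹ ∈ O) → g ∈ W) [Fintype O]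
    {φ : IrrCharacter G} (hφ : φ ∉ principalBlock M G) : ∑ n : O, (φ : G → ℂ) n = 0 := by
  classical
  refine H24.sum_normal_eq_zero φ O fun hker => hφ ?_
  haveI := H20.isPrime_of_modular hM
  haveI : Fact p.Prime := ⟨hM.1⟩
  haveI : Fintype (G ⧸ O) := Fintype.ofFinite _
  obtain ⟨ψ, rfl⟩ := H24.exists_deflate O φ hker
  refine (H24.inflate_mem_principalBlock_iff O hM hOp ψ).2 ?_
  set Q := W.map (QuotientGroup.mk' O) with hQdef
  haveI : Q.Normal := Subgroup.Normal.map inferInstance _ (QuotientGroup.mk'_surjective O)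
  have hQ : IsPGroup p Q := by
    obtain ⟨k, hk⟩ := hidx
    refine IsPGroup.of_card (n := k) ?_
    rw [← hk, hQdef, ← Subgroup.relIndex_bot_left,
      ← QuotientGroup.map_mk'_self O, Subgroup.relIndex_map_map, QuotientGroup.ker_mk',
      sup_idem, sup_eq_left.2 hOW]
  have hC : Subgroup.centralizer (Q : Set (G ⧸ O)) ≤ Q := by
    intro c hc
    obtain ⟨g, rfl⟩ := QuotientGroup.mk'_surjective O c
    refine Subgroup.mem_map_of_mem _ (hself g fun w hw => ?_)
    have h1 := hc _ (Subgroup.mem_map_of_mem (QuotientGroup.mk' O) hw)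
    rw [← QuotientGroup.eq_one_iff]
    show QuotientGroup.mk' O (g * w * g⁻¹ * w⁻¹) = 1
    rw [map_mul, map_mul, map_mul, map_inv, map_inv, ← h1]
    group
  exact single_block_of_selfCentral hM Q hQ hC (H12.oneIrr (G ⧸ O)) ψ

end H12.CSy
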