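import Cfsg.Agent.H76.CSy.Defs
import Cfsg.Agent.H12.CSy.Section
import Cfsg.Agent.H22.Klein
import Cfsg.Agent.S4528
import Cfsg.Agent.S4529
import Cfsg.Agent.S4652
import Cfsg.Agent.H25.GaloisExtend

/-!
# Principal 2-block facts for groups with cyclic odd Sylow subgroups
-/

set_option autoImplicit false
set_option linter.unusedSectionVars false
set_option linter.style.haveILetI false

open Cfsg Subgroup
open scoped ComplexConjugate

namespace H12.CSy

universe u

theorem odd_orderOf_of_mem {G : Type u} [Group G] [Finite G] {H : Subgroup G}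
    (hH : Odd (Nat.card H)) {h : G} (hh : h ∈ H) : ¬ 2 ∣ orderOf h := fun hd =>
  hH.not_two_dvd_nat (hd.trans (Subgroup.orderOf_dvd_natCard H hh))

theorem mean : H76.CSy.MeanStmt.{u} := by
  intro G _ _ M hM t ht O W hOW hWC hCO hCW hOodd hidx hself
  classical
  haveI := Fintype.ofFinite G
  set C : Subgroup G := centralizer ({t} : Set G) with hC
  haveI : Fintype C := Fintype.ofFinite _
  have hOC : O ≤ C := hOW.trans hWC
  haveI : (O.subgroupOf C).Normal := (Subgroup.normal_subgroupOf_iff_le_normalizer hOC).2 hCO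
  haveI : (W.subgroupOf C).Normal := (Subgroup.normal_subgroupOf_iff_le_normalizer hWC).2 hCW
  haveI : Fintype (O.subgroupOf C) := Fintype.ofFinite _
  haveI : Fintype O := Fintype.ofFinite _
  have hcard : Nat.card (O.subgroupOf C) = Nat.card O :=
    Nat.card_congr (Subgroup.subgroupOfEquivOfLe hOC).toEquiv
  have hnd : ¬ 2 ∣ Nat.card (O.subgroupOf C) := by rw [hcard]; exact hOodd.not_two_dvd_nat
  refine ⟨fun χ hχ => ?_, fun χ hχ w hw => ?_⟩
  · have h := section_sum_of_notMem hM ht hχ (O.subgroupOf C)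
      (fun h hh hd => hnd (hd.trans (Subgroup.orderOf_dvd_natCard _ hh))) (fun _ => 1)
      (fun φ hφ => by
        simp only [one_mul]
        refine sum_eq_zero_of_notMem hM (O.subgroupOf C) (W.subgroupOf C) hnd
          (fun x hx => hOW hx) ?_ ?_ hφ
        · rwa [Subgroup.relIndex_subgroupOf hWC]
        · intro g hg
          exact hself g g.2 fun w hw => hg ⟨w, hWC hw⟩ hw)
    rw [finsum_eq_sum_of_fintype]
    refine Eq.trans ?_ h
    exact (Fintype.sum_equiv (Subgroup.subgroupOfEquivOfLe hOC).toEquiv _ _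
      fun x => by simp).symm
  · haveI := H20.isPrime_of_modular hM
    refine H20.principal_shift_core hM ht ?_ hχ
    refine Subgroup.mem_map.2 ⟨⟨w, hOC hw⟩, ?_, rfl⟩
    exact H1.le_pPrimeCore
      ((Nat.prime_two.coprime_iff_not_dvd.2 hnd).symm) (show (⟨w, hOC hw⟩ : C) ∈ O.subgroupOf C from hw)

/-- With a Klein four Sylow subgroup there are at most three Brauer characters in the block. -/
theorem rank_klein {G : Type u} [Group G] [Fintype G] {M : Ideal AlgInt} [M.IsPrime]
    (hM : IsPModular 2 M) (P : Sylow 2 G) (hP : Nat.card P = 4)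
    (hexp : ∀ x ∈ (P : Subgroup G), x * x = 1) :
    blockRank 2 (principalBlock M G) ≤ 3 := by
  classical
  haveI : Fact (Nat.Prime 2) := ⟨Nat.prime_two⟩
  obtain ⟨⟨t, htP⟩, ht⟩ := exists_prime_orderOf_dvd_card' (G := P) 2 (by rw [hP]; norm_num)
  rw [Subgroup.orderOf_mk] at ht
  obtain ⟨hcard, hval⟩ := H22.Klein.principal_four hM P hP hexp htP ht
  set B := principalBlock M G with hB
  set v : B → (G → ℂ) := fun χ => pRegularPart 2 ((χ : IrrCharacter G) : G → ℂ) with hv
  haveI : Fintype B := Fintype.ofFinite _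
  have hrel : ∑ χ : B, ((χ : IrrCharacter G) : G → ℂ) t • v χ = 0 := by
    funext y
    simp only [Finset.sum_apply, Pi.smul_apply, smul_eq_mul, Pi.zero_apply, hv, pRegularPart]
    by_cases hy : IsPRegular 2 y
    · simp only [if_pos hy]
      refine Eq.trans ?_ (H22.Klein.sum_mul_regular hM ht (y := y) hy)
      rw [Finset.sum_subtype (H22.blockFinset B) (p := fun χ => χ ∈ B)
        (fun χ => H22.mem_blockFinset)]
      exact Finset.sum_congr rfl fun χ _ => mul_comm _ _
    · simp [hy]
  have hdep : ¬ LinearIndependent ℂ v := by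
    intro hli
    have h1 := Fintype.linearIndependent_iff.1 hli _ hrel
      ⟨H12.oneIrr G, H20.mem_blockOf_self (H12.oneIrr G)⟩
    simp [H12.oneIrr_apply] at h1
  have hrange : (fun χ : IrrCharacter G => pRegularPart 2 (χ : G → ℂ)) '' B = Set.range v := by
    rw [hv, Set.image_eq_range]
  have hle : blockRank 2 B ≤ Fintype.card B := by
    rw [blockRank, hrange]; exact finrank_range_le_card v
  have hne : blockRank 2 B ≠ Fintype.card B := fun h => hdep (by
    rw [linearIndependent_iff_card_eq_finrank_span, ← h, blockRank, hrange]; rfl)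
  rw [← Nat.card_eq_fintype_card] at hle hne
  rw [hcard] at hle hne
  omega

theorem rank : H76.CSy.RankStmt.{u} := by
  intro G _ _ M hM S hS
  classical
  haveI := Fintype.ofFinite G
  haveI : Fact (Nat.Prime 2) := ⟨Nat.prime_two⟩
  haveI := H20.isPrime_of_modular hM
  have hD : IsDefectGroup 2 M (principalBlock M G) (S : Subgroup G) :=
    (Cfsg.Agent.S4652.result 2 M hM _).2 ⟨S, rfl⟩
  rcases hS with ⟨n, hn, ⟨e⟩⟩ | hq
  · have hcard : Nat.card (S : Subgroup G) = 2 * n := by
      rw [Nat.card_congr e.toEquiv, DihedralGroup.nat_card]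
    obtain ⟨j, hj⟩ := IsPGroup.iff_card.1 S.isPGroup'
    rw [hcard] at hj
    obtain ⟨i, rfl⟩ : ∃ i, j = i + 2 := ⟨j - 2, by
      rcases j with _ | _ | j <;> simp at hj ⊢ <;> omega⟩
    obtain rfl : n = 2 ^ (i + 1) := by
      have : 2 ^ (i + 2) = 2 * 2 ^ (i + 1) := by rw [pow_succ]; ring
      omega
    rcases Nat.eq_zero_or_pos i with rfl | hi
    · refine rank_klein hM S (by rw [hcard]; norm_num) fun x hx => ?_
      have h : (e ⟨x, hx⟩) * (e ⟨x, hx⟩) = 1 := by
        generalize e ⟨x, hx⟩ = z
        revert z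
        decide
      rw [← map_mul, ← map_one e] at h
      exact congrArg Subtype.val (e.injective h)
    · exact (Cfsg.Agent.S4528.result M hM _ H20.isPBlock_principalBlock _ hD (i + 2) (by omega)
        ⟨e⟩).2.2.1
  · obtain ⟨m, hm, hcard, -⟩ := id hq
    exact (Cfsg.Agent.S4529.result M hM _ H20.isPBlock_principalBlock _ hD (m + 1) (by omega) hcard
      hq).2.2.1

end H12.CSy
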