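import Cfsg.Agent.H12.CSy.Eigen
import Cfsg.Agent.H20.Block
import Cfsg.Agent.H24.CharBasic

/-!
# A group with a Borel-like subgroup `B` with two double cosets
-/

set_option autoImplicit false
set_option linter.unusedSectionVars false
set_option linter.style.haveILetI false

open Cfsg Subgroup Pointwise

namespace H12.CSy

universe u

/-- The configuration of `SL₂(r).2`: `B = R T₀ (2-part)` with two double cosets. -/
structure Borel {C : Type u} [Group C] (B R T₀ : Subgroup C) (r : ℕ) (g₀ : C) : Prop where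
  prime : r.Prime
  odd : r ≠ 2
  R_le : R ≤ B
  T_le : T₀ ≤ B
  card_R : Nat.card R = r
  T_odd : Odd (Nat.card T₀)
  normR : B ≤ normalizer (R : Set C)
  normH : B ≤ normalizer ((R ⊔ T₀ : Subgroup C) : Set C)
  idx : ∃ k : ℕ, (R ⊔ T₀).relIndex B = 2 ^ k
  comm : ∀ a ∈ B, ∀ b ∈ B, a * b * a⁻¹ * b⁻¹ ∈ R
  fpf : ∀ d ∈ T₀, d ≠ 1 → ∀ ρ ∈ R, ρ ≠ 1 → ρ * d ≠ d * ρ
  card_C : Nat.card C = (r + 1) * Nat.card B
  two : ∀ g : C, g ∉ B → r * Nat.card {b : C // b ∈ B ∧ g⁻¹ * b * g ∈ B} = Nat.card B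
  g₀_notMem : g₀ ∉ B
  inv : ∀ d ∈ T₀, g₀ * d * g₀⁻¹ = d⁻¹
  cent : ∀ d ∈ T₀, d ≠ 1 → Nat.card (centralizer ({d} : Set C)) * (r * (r + 1)) = Nat.card C
  fix : ∀ d ∈ T₀, d ≠ 1 → ∀ g : C, g⁻¹ * d * g ∈ B → g ∈ B ∨ g₀⁻¹ * g ∈ B

variable {C : Type u} [Group C] [Fintype C] {B R T₀ : Subgroup C} {r : ℕ} {g₀ : C}

namespace Borel

variable (h : Borel B R T₀ r g₀)
include h

theorem r_odd : Odd r := h.prime.odd_of_ne_two h.odd

theorem H_le : R ⊔ T₀ ≤ B := sup_le h.R_le h.T_le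

theorem inf_eq_bot : R ⊓ T₀ = ⊥ := by
  rw [eq_bot_iff]
  intro x hx
  rw [Subgroup.mem_bot]
  by_contra hne
  exact h.fpf x hx.2 hne x hx.1 hne rfl

theorem mem_H_iff {x : C} : x ∈ R ⊔ T₀ ↔ ∃ ρ ∈ R, ∃ d ∈ T₀, ρ * d = x := by
  constructor
  · intro hx
    have h1 : ((T₀ ⊔ R : Subgroup C) : Set C) = T₀ * R :=
      Subgroup.coe_mul_of_left_le_normalizer_right T₀ R (h.T_le.trans h.normR)
    rw [sup_comm, ← SetLike.mem_coe, h1] at hx
    obtain ⟨d, hd, ρ, hρ, rfl⟩ := hx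
    exact ⟨d * ρ * d⁻¹, (Subgroup.mem_normalizer_iff.1 (h.normR (h.T_le hd)) ρ).1 hρ, d, hd,
      inv_mul_cancel_right _ _⟩
  · rintro ⟨ρ, hρ, d, hd, rfl⟩
    exact mul_mem (mem_sup_left hρ) (mem_sup_right hd)

theorem eq_of_mul_eq {ρ ρ' d d' : C} (hρ : ρ ∈ R) (hρ' : ρ' ∈ R) (hd : d ∈ T₀) (hd' : d' ∈ T₀)
    (he : ρ * d = ρ' * d') : ρ = ρ' ∧ d = d' := by
  have h1 : ρ'⁻¹ * ρ ∈ R ⊓ T₀ := by
    refine Subgroup.mem_inf.2 ⟨mul_mem (inv_mem hρ') hρ, ?_⟩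
    rw [show ρ'⁻¹ * ρ = d' * d⁻¹ by
      rw [eq_mul_inv_iff_mul_eq, mul_assoc, he, inv_mul_cancel_left]]
    exact mul_mem hd' (inv_mem hd)
  rw [h.inf_eq_bot, Subgroup.mem_bot, inv_mul_eq_one] at h1
  exact ⟨h1.symm, mul_left_cancel (h1 ▸ he)⟩

theorem odd_card_H : Odd (Nat.card (R ⊔ T₀ : Subgroup C)) := by
  have hc : Nat.card (R × T₀) = Nat.card (R ⊔ T₀ : Subgroup C) := by
    refine Nat.card_eq_of_bijective
      (fun q : R × T₀ => (⟨(q.1 : C) * q.2, mul_mem (mem_sup_left q.1.2) (mem_sup_right q.2.2)⟩ :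
        (R ⊔ T₀ : Subgroup C))) ⟨fun q q' he => ?_, fun x => ?_⟩
    · obtain ⟨e1, e2⟩ := h.eq_of_mul_eq q.1.2 q'.1.2 q.2.2 q'.2.2 (congrArg Subtype.val he)
      exact Prod.ext (Subtype.ext e1) (Subtype.ext e2)
    · obtain ⟨ρ, hρ, d, hd, he⟩ := h.mem_H_iff.1 x.2
      exact ⟨(⟨ρ, hρ⟩, ⟨d, hd⟩), Subtype.ext he⟩
  rw [← hc, Nat.card_prod, h.card_R]
  exact h.r_odd.mul h.T_odd

theorem not_dvd_of_mem_H {x : C} (hx : x ∈ R ⊔ T₀) : ¬ 2 ∣ orderOf x := fun hd =>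
  h.odd_card_H.not_two_dvd_nat (hd.trans (Subgroup.orderOf_dvd_natCard _ hx))

/-- `R d` consists of conjugates of `d` by elements of `R`. -/
theorem exists_conj {d : C} (hd : d ∈ T₀) (hd1 : d ≠ 1) {ρ : C} (hρ : ρ ∈ R) :
    ∃ c ∈ R, c * d * c⁻¹ = ρ * d := by
  have hdn : ∀ x ∈ R, d * x * d⁻¹ ∈ R := fun x hx =>
    (Subgroup.mem_normalizer_iff.1 (h.normR (h.T_le hd)) x).1 hx
  let f : R → R := fun x => ⟨(x : C) * d * (x : C)⁻¹ * d⁻¹, by
    rw [show (x : C) * d * (x : C)⁻¹ * d⁻¹ = (x : C) * (d * (x : C)⁻¹ * d⁻¹) by group]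
    exact mul_mem x.2 (hdn _ (inv_mem x.2))⟩
  have hinj : Function.Injective f := by
    intro x y hxy
    have he : (x : C) * d * (x : C)⁻¹ * d⁻¹ = (y : C) * d * (y : C)⁻¹ * d⁻¹ :=
      congrArg Subtype.val hxy
    by_contra hne
    refine h.fpf d hd hd1 ((y : C)⁻¹ * x) (mul_mem (inv_mem y.2) x.2) ?_ ?_
    · rw [ne_eq, inv_mul_eq_one]
      exact fun e => hne (Subtype.ext e.symm)
    · calc (y : C)⁻¹ * x * d
          = (y : C)⁻¹ * ((x : C) * d * (x : C)⁻¹ * d⁻¹) * d * x := by group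
        _ = d * ((y : C)⁻¹ * x) := by rw [he]; group
  obtain ⟨c, hc⟩ := (Finite.injective_iff_surjective.1 hinj) ⟨ρ, hρ⟩
  refine ⟨c, c.2, ?_⟩
  have he : (c : C) * d * (c : C)⁻¹ * d⁻¹ = ρ := congrArg Subtype.val hc
  rw [← he]; group

/-- Outside `B` there is a single double coset. -/
theorem exists_decomp {g : C} (hg : g ∉ B) : ∃ b ∈ B, ∃ b' ∈ B, g = b * g₀ * b' := by
  classical
  set F : B × B → C := fun q => (q.1 : C) * g₀ * q.2 with hF
  set I : Finset C := Finset.univ.image F with hI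
  set O' : Finset C := Finset.univ.filter (fun x => x ∉ B) with hO
  set N := Nat.card {b : C // b ∈ B ∧ g₀⁻¹ * b * g₀ ∈ B} with hN
  have hsub : I ⊆ O' := by
    intro x hx
    obtain ⟨q, -, rfl⟩ := Finset.mem_image.1 hx
    refine Finset.mem_filter.2 ⟨Finset.mem_univ _, fun hm => h.g₀_notMem ?_⟩
    have := mul_mem (mul_mem (inv_mem q.1.2) hm) (inv_mem q.2.2)
    rwa [show (q.1 : C)⁻¹ * F q * (q.2 : C)⁻¹ = g₀ by simp [hF, mul_assoc]] at this
  have hfib : ∀ x ∈ I, (Finset.univ.filter fun q => F q = x).card ≤ N := by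
    intro x hx
    obtain ⟨q₁, -, rfl⟩ := Finset.mem_image.1 hx
    rw [hN, Nat.card_eq_fintype_card, Fintype.card_subtype]
    refine Finset.card_le_card_of_injOn (fun q => (q₁.1 : C)⁻¹ * q.1) (fun q hq => ?_)
      (fun q hq q' hq' he => ?_)
    · have he : (q.1 : C) * g₀ * q.2 = (q₁.1 : C) * g₀ * q₁.2 := (Finset.mem_filter.1 hq).2
      refine Finset.mem_filter.2 ⟨Finset.mem_univ _, mul_mem (inv_mem q₁.1.2) q.1.2, ?_⟩
      rw [show g₀⁻¹ * ((q₁.1 : C)⁻¹ * q.1) * g₀ = g₀⁻¹ * (q₁.1 : C)⁻¹ * ((q.1 : C) * g₀ * q.2) *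
        (q.2 : C)⁻¹ by group, he,
        show g₀⁻¹ * (q₁.1 : C)⁻¹ * ((q₁.1 : C) * g₀ * q₁.2) * (q.2 : C)⁻¹ =
          (q₁.2 : C) * (q.2 : C)⁻¹ by group]
      exact mul_mem q₁.2.2 (inv_mem q.2.2)
    · have e1 : q.1 = q'.1 := Subtype.ext (mul_left_cancel he)
      have h2 : F q = F q' := (Finset.mem_filter.1 hq).2.trans (Finset.mem_filter.1 hq').2.symm
      simp only [hF, e1, mul_right_inj] at h2
      exact Prod.ext e1 (Subtype.ext h2)
  have hcard : (Finset.univ : Finset (B × B)).card ≤ N * I.card :=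
    Finset.card_le_mul_card_image _ _ hfib
  rw [Finset.card_univ, Fintype.card_prod, ← Nat.card_eq_fintype_card] at hcard
  have hO' : O'.card = r * Nat.card B := by
    rw [hO, Finset.filter_not, Finset.card_sdiff_of_subset (Finset.filter_subset _ _),
      Finset.card_univ, ← Nat.card_eq_fintype_card, h.card_C,
      ← Nat.subtype_card (p := (· ∈ B)) _ (fun x => by simp)]
    rw [add_mul, one_mul, Nat.add_sub_cancel]
  have hle : O'.card ≤ I.card := by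
    have h1 : r * N = Nat.card B := h.two g₀ h.g₀_notMem
    have hNpos : 0 < N := by
      rcases Nat.eq_zero_or_pos N with h0 | h0
      · rw [h0, mul_zero] at h1; exact absurd h1.symm Nat.card_pos.ne'
      · exact h0
    refine Nat.le_of_mul_le_mul_left ?_ hNpos
    calc N * O'.card = (r * N) * Nat.card B := by rw [hO']; ring
      _ = Nat.card B * Nat.card B := by rw [h1]
      _ ≤ N * I.card := hcard
  have hgI : g ∈ I := by
    rw [Finset.eq_of_subset_of_card_le hsub hle]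
    exact Finset.mem_filter.2 ⟨Finset.mem_univ _, hg⟩
  obtain ⟨q, -, rfl⟩ := Finset.mem_image.1 hgI
  exact ⟨q.1, q.1.2, q.2, q.2.2, rfl⟩

theorem index_cent {d : C} (hd : d ∈ T₀) (hd1 : d ≠ 1) :
    (centralizer ({d} : Set C)).index = r * (r + 1) :=
  Nat.eq_of_mul_eq_mul_left Nat.card_pos
    ((Subgroup.card_mul_index _).trans (h.cent d hd hd1).symm)

end Borel

/-- An eigen-character of `B` extending `ν⁻¹` inside an irreducible character, with the scalar by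
which the other double coset acts on it. -/
structure EigenData (φ : IrrCharacter C) (B H : Subgroup C) (g₀ : C) (ν : C → ℂ) where
  μ : C → ℂ
  a : ℂ
  n : ℕ
  ρ : Representation ℂ C (Fin n → ℂ)
  irr : ρ.IsIrreducible
  char : ρ.character = (φ : C → ℂ)
  v : Fin n → ℂ
  v_ne : v ≠ 0
  mul : ∀ x ∈ B, ∀ y ∈ B, μ (x * y) = μ x * μ y
  ne_zero : ∀ x ∈ B, μ x ≠ 0
  onH : ∀ x ∈ H, μ x = (ν x)⁻¹
  eigen : ∀ b ∈ B, ρ b v = μ b • v
  eigen₀ : proj ρ B μ (ρ g₀ v) = a • v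

theorem Borel.exists_eigenData (h : Borel B R T₀ r g₀) {ν : C → ℂ}
    (hν : ∀ x ∈ R ⊔ T₀, ∀ y ∈ R ⊔ T₀, ν (x * y) = ν x * ν y) (hν1 : ∀ x ∈ R, ν x = 1)
    [Fintype (R ⊔ T₀ : Subgroup C)] {φ : IrrCharacter C}
    (hne : ∑ x : (R ⊔ T₀ : Subgroup C), ν x * (φ : C → ℂ) x ≠ 0) :
    Nonempty (EigenData φ B (R ⊔ T₀) g₀ ν) := by
  classical
  obtain ⟨n, ρ, hρ, hφ⟩ := φ.2
  have hν0 : ∀ x ∈ (R ⊔ T₀ : Subgroup C), ν x ≠ 0 := fun x hx h0 => by
    have := hν x hx x⁻¹ (inv_mem hx)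
    rw [h0, zero_mul, mul_inv_cancel, hν1 1 R.one_mem] at this
    exact one_ne_zero this
  let Q : Module.End ℂ (Fin n → ℂ) := ∑ x : (R ⊔ T₀ : Subgroup C), ν x • ρ x
  have htr : LinearMap.trace ℂ _ Q = ∑ x : (R ⊔ T₀ : Subgroup C), ν x * (φ : C → ℂ) x := by
    rw [← hφ]; simp [Q, map_sum, Representation.character]
  obtain ⟨w, hw⟩ : ∃ w, Q w ≠ 0 := by
    by_contra! hall
    apply hne
    rw [← htr, show Q = 0 from LinearMap.ext hall, map_zero]
  let U : Submodule ℂ (Fin n → ℂ) :=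
    { carrier := {v | ∀ x ∈ (R ⊔ T₀ : Subgroup C), ρ x v = (ν x)⁻¹ • v}
      add_mem' := fun {a b} ha hb x hx => by rw [map_add, ha x hx, hb x hx, smul_add]
      zero_mem' := fun x hx => by simp
      smul_mem' := fun c {v} hv x hx => by rw [map_smul, hv x hx, smul_comm] }
  have hQw : Q w ∈ U := by
    intro y hy
    simp only [Q, LinearMap.coe_sum, Finset.sum_apply, LinearMap.smul_apply, map_sum, map_smul,
      Finset.smul_sum, smul_smul]
    refine Fintype.sum_equiv (Equiv.mulLeft (⟨y, hy⟩ : (R ⊔ T₀ : Subgroup C))) _ _ fun x => ?_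
    simp only [Equiv.coe_mulLeft, Subgroup.coe_mul, map_mul, Module.End.mul_apply,
      hν y hy x x.2]
    rw [← mul_assoc, inv_mul_cancel₀ (hν0 y hy), one_mul]
  have hU : U ≠ ⊥ := fun hb => hw ((Submodule.eq_bot_iff U).1 hb _ hQw)
  have hinv : ∀ b : B, ∀ v ∈ U, ρ (b : C) v ∈ U := by
    intro b v hv x hx
    have hR : (b : C)⁻¹ * x * (b : C) * x⁻¹ ∈ R := by
      simpa using h.comm _ (inv_mem b.2) _ (h.H_le hx)
    have hx' : (b : C)⁻¹ * x * (b : C) ∈ (R ⊔ T₀ : Subgroup C) := by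
      simpa using (Subgroup.mem_normalizer_iff.1 (h.normH (inv_mem b.2)) x).1 hx
    have hνeq : ν ((b : C)⁻¹ * x * (b : C)) = ν x := by
      rw [show (b : C)⁻¹ * x * (b : C) = (b : C)⁻¹ * x * (b : C) * x⁻¹ * x by group,
        hν _ (mem_sup_left hR) x hx, hν1 _ hR, one_mul]
    rw [← hνeq, ← map_smul, ← hv _ hx', ← Module.End.mul_apply, ← Module.End.mul_apply,
      ← map_mul, ← map_mul]
    congr 2
    group
  have hcomm : ∀ b c : B, ∀ v ∈ U, ρ (b : C) (ρ (c : C) v) = ρ (c : C) (ρ (b : C) v) := by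
    intro b c v hv
    set z : C := ((c : C) * b)⁻¹ * ((b : C) * c) with hz
    have hzR : z ∈ R := by
      have := h.comm _ (inv_mem b.2) _ (inv_mem c.2)
      rw [hz]
      simpa [mul_assoc] using this
    have hzv : ρ z v = v := by rw [hv z (mem_sup_left hzR), hν1 z hzR, inv_one, one_smul]
    conv_rhs => rw [← hzv]
    rw [← Module.End.mul_apply, ← Module.End.mul_apply, ← Module.End.mul_apply, ← map_mul,
      ← map_mul, ← map_mul, hz]
    congr 2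
    group
  obtain ⟨v₁, hv₁, hv₁0, hev⟩ :=
    exists_joint_eigen hU (fun b : B => (ρ (b : C) : Module.End ℂ (Fin n → ℂ))) hinv hcomm
  choose c hc using hev
  let μ : C → ℂ := fun x => if hx : x ∈ B then c ⟨x, hx⟩ else 0
  have hμ : ∀ b ∈ B, ρ b v₁ = μ b • v₁ := fun b hb => by
    simp only [μ, dif_pos hb]; exact hc ⟨b, hb⟩
  have hmul : ∀ x ∈ B, ∀ y ∈ B, μ (x * y) = μ x * μ y := fun x hx y hy =>
    smul_left_injective ℂ hv₁0 (show μ (x * y) • v₁ = (μ x * μ y) • v₁ by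
      rw [← hμ _ (mul_mem hx hy), map_mul, Module.End.mul_apply, hμ y hy, map_smul, hμ x hx,
        smul_smul, mul_comm])
  have h0 : ∀ x ∈ B, μ x ≠ 0 := fun x hx hz => hv₁0 (by
    have := hμ x hx
    rw [hz, zero_smul] at this
    have h2 := congrArg (ρ x⁻¹) this
    rwa [map_zero, ← Module.End.mul_apply, ← map_mul, inv_mul_cancel, map_one,
      Module.End.one_apply] at h2)
  have honH : ∀ x ∈ (R ⊔ T₀ : Subgroup C), μ x = (ν x)⁻¹ := fun x hx =>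
    smul_left_injective ℂ hv₁0 (show μ x • v₁ = (ν x)⁻¹ • v₁ by
      rw [← hμ x (h.H_le hx), hv₁ x hx])
  let U' : Submodule ℂ (Fin n → ℂ) :=
    { carrier := {v | ∀ b ∈ B, ρ b v = μ b • v}
      add_mem' := fun {a b} ha hb x hx => by rw [map_add, ha x hx, hb x hx, smul_add]
      zero_mem' := fun x hx => by simp
      smul_mem' := fun c {v} hv x hx => by rw [map_smul, hv x hx, smul_comm] }
  obtain ⟨v, hv, hv0, a, ha⟩ := exists_eigen (U := U')
    (fun hb => hv₁0 ((Submodule.eq_bot_iff U').1 hb v₁ hμ))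
    (proj ρ B μ * ρ g₀) (fun w _ b hb => by
      rw [Module.End.mul_apply]; exact rho_proj hmul h0 hb _)
  exact ⟨⟨μ, a, n, ρ, hρ, hφ, v, hv0, hmul, h0, honH, hv, ha⟩⟩

end H12.CSy
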