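import Cfsg.Agent.H12.CSy.BorelNontriv
import Cfsg.Agent.H20.BlockApps

/-!
# Constituents of the permutation character of the Borel-like subgroup are in the principal block
-/

set_option autoImplicit false
set_option linter.unusedSectionVars false
set_option linter.style.haveILetI false

open Cfsg Subgroup

namespace H12.CSy

universe u

variable {M : Ideal AlgInt}

/-- Roots of unity of 2-power order are `1` modulo `M`. -/
theorem memIdeal_sub_one_of_pow (hM : IsPModular 2 M) {z : ℂ} {k : ℕ} (h : z ^ 2 ^ k = 1) :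
    MemLocalIdeal M (z - 1) := by
  haveI := H20.isPrime_of_modular hM
  have hz := H20.memRing_of_pow_eq_one (M := M) (pow_pos two_pos k) h
  have hone : MemLocalRing M (1 : ℂ) := by simpa using H20.memRing_natCast (M := M) 1
  refine (H20.redC_eq_iff hz hone).1 ?_
  rw [H20.redC_of_mem hz, H20.redC_one]
  exact H20.red_eq_one_of_pow_p_pow hM (w := ⟨z, hz⟩) (j := k) (Subtype.ext (by simpa using h))

theorem memIdeal_sum_sub_card (hM : IsPModular 2 M) {ι : Type*} (s : Finset ι) (f : ι → ℂ)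
    {k : ℕ} (hf : ∀ i ∈ s, f i ^ 2 ^ k = 1) :
    MemLocalIdeal M (∑ i ∈ s, f i - (s.card : ℂ)) := by
  haveI := H20.isPrime_of_modular hM
  classical
  induction s using Finset.induction_on with
  | empty => simpa using H20.memIdeal_zero (M := M)
  | @insert a s ha ih =>
    have h1 := H20.memIdeal_add (memIdeal_sub_one_of_pow hM (hf a (Finset.mem_insert_self a s)))
      (ih fun i hi => hf i (Finset.mem_insert_of_mem hi))
    convert h1 using 1
    rw [Finset.sum_insert ha, Finset.card_insert_of_notMem ha]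
    push_cast
    ring

theorem isIntegral_of_quadratic {T x Y : ℂ} (hx : IsIntegral ℤ x) (hY : IsIntegral ℤ Y)
    (h : T ^ 2 - Y * T - x = 0) : IsIntegral ℤ T := by
  have hA : IsIntegral AlgInt T :=
    ⟨Polynomial.X ^ 2 - Polynomial.C (⟨Y, hY⟩ : AlgInt) * Polynomial.X
        - Polynomial.C (⟨x, hx⟩ : AlgInt),
      by monicity!,
      by
        simp only [Polynomial.eval₂_sub, Polynomial.eval₂_pow, Polynomial.eval₂_X,
          Polynomial.eval₂_mul, Polynomial.eval₂_C]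
        exact h⟩
  exact isIntegral_trans _ hA

variable {C : Type u} [Group C] [Fintype C] {B R T₀ : Subgroup C} {r : ℕ} {g₀ : C}

namespace EigenData

variable {φ : IrrCharacter C} (D : EigenData φ B (R ⊔ T₀) g₀ (fun _ => 1))

theorem pow_two_pow (h : Borel B R T₀ r g₀) {k : ℕ} (hk : (R ⊔ T₀).relIndex B = 2 ^ k) {b : C}
    (hb : b ∈ B) : D.μ b ^ 2 ^ k = 1 := by
  haveI : ((R ⊔ T₀).subgroupOf B).Normal :=
    (Subgroup.normal_subgroupOf_iff_le_normalizer h.H_le).2 h.normH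
  have h1 := Subgroup.pow_index_mem ((R ⊔ T₀).subgroupOf B) (⟨b, hb⟩ : B)
  rw [← Subgroup.relIndex, hk] at h1
  rw [← apply_pow_of_mul D.mul D.ne_zero hb, D.onH (b ^ 2 ^ k) h1, inv_one]

theorem symm_R (h : Borel B R T₀ r g₀) {ρ : C} (hρ : ρ ∈ R) (hρ' : g₀⁻¹ * ρ * g₀ ∈ B) :
    D.μ (g₀⁻¹ * ρ * g₀) = 1 := by
  obtain ⟨k, hk⟩ := h.idx
  have h1 := D.pow_two_pow h hk hρ'
  have h2 : D.μ (g₀⁻¹ * ρ * g₀) ^ r = 1 := by
    rw [← apply_pow_of_mul D.mul D.ne_zero hρ',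
      show (g₀⁻¹ * ρ * g₀) ^ r = g₀⁻¹ * ρ ^ r * g₀⁻¹⁻¹ by
        rw [← conj_pow, inv_inv],
      show ρ ^ r = 1 from by
        rw [← h.card_R]; exact congrArg Subtype.val (pow_card_eq_one' (x := (⟨ρ, hρ⟩ : R)))]
    simp [apply_one_of_mul D.mul D.ne_zero]
  have h3 := pow_gcd_eq_one.2 ⟨h1, h2⟩
  rwa [Nat.Coprime.gcd_eq_one ((Nat.coprime_two_left.2 h.r_odd).pow_left k), pow_one] at h3

open Classical in
/-- When `μ` is not symmetric, half of each class outside `B` pairs off. -/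
theorem even_outside (h : Borel B R T₀ r g₀) {e : C} (he : e ∈ B) (he' : g₀⁻¹ * e * g₀ ∈ B)
    (hne : D.μ (g₀⁻¹ * e * g₀) ≠ D.μ e) (g : C) :
    2 ∣ (Finset.univ.filter (fun x => IsConj g x ∧ x ∉ B)).card := by
  haveI : Fact (Nat.Prime 2) := ⟨Nat.prime_two⟩
  obtain ⟨k, hk⟩ := h.idx
  obtain ⟨j, m, hm, hjm⟩ := Nat.exists_eq_two_pow_mul_odd (orderOf_pos e).ne'
  set e₂ := e ^ m with he₂
  have he₂B : e₂ ∈ B := pow_mem he m
  have hconj : g₀⁻¹ * e₂ * g₀ = (g₀⁻¹ * e * g₀) ^ m := by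
    rw [he₂, show g₀⁻¹ * e * g₀ = g₀⁻¹ * e * g₀⁻¹⁻¹ by rw [inv_inv], conj_pow, inv_inv]
  have he₂B' : g₀⁻¹ * e₂ * g₀ ∈ B := by rw [hconj]; exact pow_mem he' m
  have hne₂ : D.μ (g₀⁻¹ * e₂ * g₀) ≠ D.μ e₂ := by
    rw [hconj, he₂, apply_pow_of_mul D.mul D.ne_zero he', apply_pow_of_mul D.mul D.ne_zero he]
    intro heq
    apply hne
    have hz0 := D.ne_zero e he
    have h1 : (D.μ (g₀⁻¹ * e * g₀) * (D.μ e)⁻¹) ^ 2 ^ k = 1 := by
      rw [mul_pow, inv_pow, D.pow_two_pow h hk he', D.pow_two_pow h hk he, inv_one, mul_one]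
    have h2 : (D.μ (g₀⁻¹ * e * g₀) * (D.μ e)⁻¹) ^ m = 1 := by
      rw [mul_pow, inv_pow, heq, mul_inv_cancel₀ (pow_ne_zero m hz0)]
    have h3 := pow_gcd_eq_one.2 ⟨h1, h2⟩
    rw [Nat.Coprime.gcd_eq_one ((Nat.coprime_two_left.2 hm).pow_left k), pow_one,
      mul_inv_eq_one₀ hz0] at h3
    exact h3
  have hP : IsPGroup 2 (Subgroup.zpowers e₂) := by
    have hd : orderOf e₂ ∣ 2 ^ j := orderOf_dvd_of_pow_eq_one (by
      rw [he₂, ← pow_mul, mul_comm, ← hjm, pow_orderOf_eq_one])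
    obtain ⟨i, -, hi⟩ := (Nat.dvd_prime_pow Nat.prime_two).1 hd
    exact IsPGroup.of_card (n := i) (by rw [Nat.card_zpowers, hi])
  let X := {x : C // IsConj g x ∧ x ∉ B}
  have hzB : ∀ z : Subgroup.zpowers e₂, (z : C) ∈ B := fun z => Subgroup.zpowers_le.2 he₂B z.2
  letI : MulAction (Subgroup.zpowers e₂) X :=
    { smul := fun z x => ⟨(z : C) * x.1 * (z : C)⁻¹, x.2.1.trans (isConj_iff.2 ⟨z, rfl⟩),
        fun hm' => x.2.2 (by
          have := mul_mem (mul_mem (inv_mem (hzB z)) hm') (hzB z)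
          simpa [mul_assoc] using this)⟩
      one_smul := fun x => Subtype.ext (show ((1 : Subgroup.zpowers e₂) : C) * x.1 *
        ((1 : Subgroup.zpowers e₂) : C)⁻¹ = x.1 by simp)
      mul_smul := fun y z x => Subtype.ext (show ((y * z : Subgroup.zpowers e₂) : C) * x.1 *
        ((y * z : Subgroup.zpowers e₂) : C)⁻¹ =
          (y : C) * ((z : C) * x.1 * (z : C)⁻¹) * (y : C)⁻¹ by simp [mul_assoc]) }
  have hfix : IsEmpty (MulAction.fixedPoints (Subgroup.zpowers e₂) X) := by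
    refine ⟨fun ⟨x, hx⟩ => hne₂ ?_⟩
    have hcomm : e₂ * x.1 * e₂⁻¹ = x.1 :=
      congrArg Subtype.val (hx ⟨e₂, Subgroup.mem_zpowers e₂⟩)
    obtain ⟨b, hb, b', hb', hxe⟩ := h.exists_decomp x.2.2
    set e₁ := b⁻¹ * e₂ * b with he₁
    have he₁B : e₁ ∈ B := mul_mem (mul_mem (inv_mem hb) he₂B) hb
    have hswap : g₀⁻¹ * e₁ * g₀ = b' * e₂ * b'⁻¹ := by
      have h5 : e₂ * x.1 = x.1 * e₂ := mul_inv_eq_iff_eq_mul.1 hcomm
      rw [hxe] at h5
      calc g₀⁻¹ * e₁ * g₀ = g₀⁻¹ * b⁻¹ * (e₂ * (b * g₀ * b')) * b'⁻¹ := by rw [he₁]; group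
        _ = b' * e₂ * b'⁻¹ := by rw [h5]; group
    have hρR : e₁ * e₂⁻¹ ∈ R := by
      rw [he₁]; simpa using h.comm _ (inv_mem hb) _ he₂B
    have hρB' : g₀⁻¹ * (e₁ * e₂⁻¹) * g₀ ∈ B := by
      rw [show g₀⁻¹ * (e₁ * e₂⁻¹) * g₀ = g₀⁻¹ * e₁ * g₀ * (g₀⁻¹ * e₂ * g₀)⁻¹ by group, hswap]
      exact mul_mem (mul_mem (mul_mem hb' he₂B) (inv_mem hb')) (inv_mem he₂B')
    have h6 := D.symm_R h hρR hρB'
    have h7 : g₀⁻¹ * e₁ * g₀ = g₀⁻¹ * (e₁ * e₂⁻¹) * g₀ * (g₀⁻¹ * e₂ * g₀) := by group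
    have h8 : D.μ (g₀⁻¹ * e₁ * g₀) = D.μ (g₀⁻¹ * e₂ * g₀) := by
      rw [h7, D.mul _ hρB' _ he₂B', h6, one_mul]
    rw [← h8, hswap, D.mul _ (mul_mem hb' he₂B) _ (inv_mem hb'), D.mul _ hb' _ he₂B,
      apply_inv_of_mul D.mul D.ne_zero hb']
    field_simp [D.ne_zero b' hb']
  have hmod := hP.card_modEq_card_fixedPoints X
  rw [Nat.card_of_isEmpty (α := MulAction.fixedPoints (Subgroup.zpowers e₂) X)] at hmod
  have h9 := Nat.modEq_zero_iff_dvd.1 hmod
  rwa [Nat.card_eq_fintype_card, Fintype.card_subtype] at h9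

/-- The Hecke eigenvalue is `1` modulo `M` when `μ` is symmetric. -/
theorem memIdeal_a_sub_one (hM : IsPModular 2 M) (h : Borel B R T₀ r g₀)
    (hsym : ∀ e ∈ B, g₀⁻¹ * e * g₀ ∈ B → D.μ (g₀⁻¹ * e * g₀) = D.μ e) :
    MemLocalRing M D.a ∧ MemLocalIdeal M (D.a - 1) := by
  classical
  haveI := H20.isPrime_of_modular hM
  obtain ⟨k, hk⟩ := h.idx
  obtain ⟨θ, hθ⟩ := D.exists_theta h
  let η : C → ℂ := fun b => (D.μ b)⁻¹ * if g₀ * b * g₀ ∈ B then D.μ (g₀ * b * g₀)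
    else θ (g₀ * b * g₀)
  let cf : C → ℂ := fun b => if g₀ * b * g₀ ∈ B then η b else η b * D.a
  let F : B → (Fin D.n → ℂ) := fun b => (D.μ b)⁻¹ • proj D.ρ B D.μ (D.ρ (g₀ * b * g₀) D.v)
  have hF : ∀ b : B, F b = cf b • D.v := fun b => by
    simp only [F, cf, η]
    by_cases hb : g₀ * (b : C) * g₀ ∈ B
    · rw [if_pos hb, if_pos hb, D.proj_of_B hb, smul_smul]
    · rw [if_neg hb, if_neg hb, (hθ _ hb).1, smul_smul, ← mul_assoc (D.μ (b : C))⁻¹]
  have hηroot : ∀ b : B, η b ^ 2 ^ k = 1 := fun b => by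
    simp only [η, mul_pow, inv_pow, D.pow_two_pow h hk b.2, inv_one, one_mul]
    by_cases hb : g₀ * (b : C) * g₀ ∈ B
    · rw [if_pos hb, D.pow_two_pow h hk hb]
    · obtain ⟨b₁, hb₁, b₂, hb₂, he⟩ := (hθ _ hb).2
      rw [if_neg hb, he, mul_pow, D.pow_two_pow h hk hb₁, D.pow_two_pow h hk hb₂, one_mul]
  have hA : (D.a * D.a) • D.v = (Nat.card B : ℂ)⁻¹ • ∑ b : B, F b := by
    have h1 : proj D.ρ B D.μ (D.ρ g₀ (proj D.ρ B D.μ (D.ρ g₀ D.v))) = (D.a * D.a) • D.v := by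
      rw [D.eigen₀, map_smul, map_smul, D.eigen₀, smul_smul]
    rw [← h1, proj_apply (w := D.ρ g₀ D.v), map_smul, map_sum, map_smul, map_sum]
    refine congrArg _ (Finset.sum_congr rfl fun b _ => ?_)
    rw [map_smul, map_smul, ← Module.End.mul_apply (D.ρ (b : C)), ← map_mul,
      ← Module.End.mul_apply (D.ρ g₀), ← map_mul, ← mul_assoc]
  let Dd : Subgroup B :=
    { carrier := {b | g₀⁻¹ * (b : C) * g₀ ∈ B}
      one_mem' := by simp
      mul_mem' := fun {a b} ha hb => by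
        show g₀⁻¹ * ((a : C) * b) * g₀ ∈ B
        rw [show g₀⁻¹ * ((a : C) * b) * g₀ = g₀⁻¹ * (a : C) * g₀ * (g₀⁻¹ * (b : C) * g₀) by group]
        exact mul_mem ha hb
      inv_mem' := fun {a} ha => by
        show g₀⁻¹ * (a : C)⁻¹ * g₀ ∈ B
        rw [show g₀⁻¹ * (a : C)⁻¹ * g₀ = (g₀⁻¹ * (a : C) * g₀)⁻¹ by group]
        exact inv_mem ha }
  have hidx : r * Nat.card Dd = Nat.card B := by
    rw [← h.two g₀ h.g₀_notMem]
    congr 1
    exact Nat.card_congr (Equiv.subtypeSubtypeEquivSubtypeInter (fun b : C => b ∈ B)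
      (fun b : C => g₀⁻¹ * b * g₀ ∈ B))
  have hindex : Dd.index = r :=
    Nat.eq_of_mul_eq_mul_left Nat.card_pos
      ((Subgroup.card_mul_index Dd).trans (hidx.symm.trans (mul_comm _ _)))
  have hFinv : ∀ b : B, ∀ e ∈ Dd, F (b * e) = F b := by
    intro b e he
    simp only [F, Subgroup.coe_mul]
    rw [show g₀ * ((b : C) * (e : C)) * g₀ = g₀ * (b : C) * g₀ * (g₀⁻¹ * (e : C) * g₀) by group,
      map_mul, Module.End.mul_apply, D.eigen _ he, map_smul, map_smul, smul_smul,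
      hsym _ e.2 he, D.mul _ b.2 _ e.2, mul_inv, mul_assoc, inv_mul_cancel₀ (D.ne_zero _ e.2),
      mul_one]
  let F' : B ⧸ Dd → (Fin D.n → ℂ) := fun q => F q.out
  have hFF : ∀ b : B, F b = F' (QuotientGroup.mk b) := fun b => by
    obtain ⟨e, he⟩ := QuotientGroup.mk_out_eq_mul Dd b
    simp only [F']
    rw [he, hFinv b e e.2]
  have hsum : ∑ b : B, F b = (Nat.card Dd : ℂ) • ∑ q : B ⧸ Dd, F' q := by
    rw [Finset.sum_congr rfl fun b _ => hFF b,
      ← Finset.sum_fiberwise' Finset.univ (fun b : B => (QuotientGroup.mk b : B ⧸ Dd)) F',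
      Finset.smul_sum]
    refine Finset.sum_congr rfl fun q _ => ?_
    rw [Finset.sum_const, Nat.cast_smul_eq_nsmul]
    congr 1
    have h1 := Nat.card_congr (QuotientGroup.preimageMkEquivSubgroupProdSet Dd {q})
    rw [Nat.card_prod, Nat.card_eq_fintype_card (α := ({q} : Set (B ⧸ Dd))), Fintype.card_unique,
      mul_one] at h1
    rw [← h1, Nat.card_eq_fintype_card]
    exact (Fintype.card_of_subtype _ (fun b => by simp)).symm
  obtain ⟨q₀, hq₀⟩ : ∃ q₀ : B ⧸ Dd, ∀ q : B ⧸ Dd, g₀ * ((q.out : B) : C) * g₀ ∈ B ↔ q = q₀ := by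
    have hmem : ∀ b : B, ∀ e ∈ Dd, (g₀ * ((b * e : B) : C) * g₀ ∈ B ↔ g₀ * (b : C) * g₀ ∈ B) := by
      intro b e he
      rw [Subgroup.coe_mul, show g₀ * ((b : C) * (e : C)) * g₀ =
        g₀ * (b : C) * g₀ * (g₀⁻¹ * (e : C) * g₀) by group]
      exact ⟨fun h1 => by
          have h2 := mul_mem h1 (inv_mem (show g₀⁻¹ * (e : C) * g₀ ∈ B from he))
          rwa [mul_inv_cancel_right] at h2,
        fun h1 => mul_mem h1 he⟩
    obtain ⟨b₁, hb₁, b₂, hb₂, he⟩ :=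
      h.exists_decomp (g := g₀⁻¹) (fun hm => h.g₀_notMem (by simpa using inv_mem hm))
    have hS : g₀ * b₁ * g₀ ∈ B := by
      have : g₀ * b₁ * g₀ = b₂⁻¹ := by
        calc g₀ * b₁ * g₀ = g₀ * (b₁ * g₀ * b₂) * b₂⁻¹ := by group
          _ = b₂⁻¹ := by rw [← he]; group
      rw [this]; exact inv_mem hb₂
    refine ⟨QuotientGroup.mk ⟨b₁, hb₁⟩, fun q => ⟨fun hq => ?_, fun hq => ?_⟩⟩
    · rw [← QuotientGroup.out_eq' q]
      refine (QuotientGroup.eq.2 ?_).symm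
      show g₀⁻¹ * (b₁⁻¹ * ((q.out : B) : C)) * g₀ ∈ B
      rw [show g₀⁻¹ * (b₁⁻¹ * ((q.out : B) : C)) * g₀ =
        (g₀ * b₁ * g₀)⁻¹ * (g₀ * ((q.out : B) : C) * g₀) by group]
      exact mul_mem (inv_mem hS) hq
    · subst hq
      obtain ⟨e, he'⟩ := QuotientGroup.mk_out_eq_mul Dd (⟨b₁, hb₁⟩ : B)
      rw [he', hmem _ e e.2]
      exact hS
  set x₀ := η (q₀.out : B) with hx₀
  set Y := ∑ q ∈ (Finset.univ : Finset (B ⧸ Dd)).erase q₀, η (q.out : B) with hY
  have hsum' : ∑ q : B ⧸ Dd, F' q = (x₀ + Y * D.a) • D.v := by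
    rw [← Finset.add_sum_erase _ _ (Finset.mem_univ q₀), add_smul]
    congr 1
    · simp only [F', hF, cf, if_pos ((hq₀ q₀).2 rfl), hx₀]
    · rw [hY, Finset.sum_mul, Finset.sum_smul]
      refine Finset.sum_congr rfl fun q hq => ?_
      simp only [F', hF, cf, if_neg (mt (hq₀ q).1 (Finset.mem_erase.1 hq).1)]
  have hB0 : (Nat.card B : ℂ) ≠ 0 := by exact_mod_cast (Nat.card_pos (α := B)).ne'
  have heq : (r : ℂ) * (D.a * D.a) = x₀ + Y * D.a := by
    rw [hsum, hsum', smul_smul, smul_smul] at hA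
    have h2 := smul_left_injective ℂ D.v_ne hA
    have h4 : (Nat.card B : ℂ) = (r : ℂ) * (Nat.card Dd : ℂ) := by exact_mod_cast hidx.symm
    rw [h4] at h2
    rw [h2]
    have hD0 : (Nat.card Dd : ℂ) ≠ 0 := by exact_mod_cast (Nat.card_pos (α := Dd)).ne'
    have hr0 : (r : ℂ) ≠ 0 := by exact_mod_cast h.prime.ne_zero
    field_simp
  have hx₀i : IsIntegral ℤ x₀ :=
    IsIntegral.of_pow (pow_pos two_pos k) (by rw [hx₀, hηroot]; exact isIntegral_one)
  have hYi : IsIntegral ℤ Y := IsIntegral.sum _ fun q _ =>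
    IsIntegral.of_pow (pow_pos two_pos k) (by rw [hηroot]; exact isIntegral_one)
  set T : ℂ := (r : ℂ) * D.a with hT
  have hquad : T ^ 2 - Y * T - (r : ℂ) * x₀ = 0 := by
    rw [hT]; linear_combination (r : ℂ) * heq
  have hrI : IsIntegral ℤ (r : ℂ) := isIntegral_algebraMap (R := ℤ) (x := (r : ℤ))
  have hTi : IsIntegral ℤ T := isIntegral_of_quadratic (hrI.mul hx₀i) hYi hquad
  have hTr : MemLocalRing M T := H20.memRing_of_isIntegral hTi
  have h2M : MemLocalIdeal M (2 : ℂ) := by simpa using H20.memIdeal_p hM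
  have hr1 : MemLocalIdeal M (((r - 1 : ℕ)) : ℂ) := by
    rw [H20.natCast_memIdeal_iff hM]
    obtain ⟨j, hj⟩ := h.r_odd
    exact ⟨j, by omega⟩
  have hcast : ((r - 1 : ℕ) : ℂ) = (r : ℂ) - 1 := by
    rw [Nat.cast_sub h.prime.one_le, Nat.cast_one]
  have hYM : MemLocalIdeal M Y := by
    have h1 := memIdeal_sum_sub_card hM ((Finset.univ : Finset (B ⧸ Dd)).erase q₀)
      (fun q => η (q.out : B)) (k := k) (fun q _ => hηroot _)
    rw [Finset.card_erase_of_mem (Finset.mem_univ _), Finset.card_univ,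
      ← Nat.card_eq_fintype_card, ← Subgroup.index_eq_card, hindex] at h1
    have := H20.memIdeal_add h1 hr1
    simpa [hY] using this
  have hsq : MemLocalIdeal M ((T - 1) ^ 2) := by
    have h1 : MemLocalIdeal M ((r : ℂ) * (x₀ - 1) + ((r : ℂ) - 1) + T * Y) :=
      H20.memIdeal_add (H20.memIdeal_add
        (H20.memIdeal_mul (H20.memRing_natCast r) (memIdeal_sub_one_of_pow hM (hηroot _)))
        (hcast ▸ hr1)) (H20.memIdeal_mul hTr hYM)
    have := H20.memIdeal_add h1 (H20.memIdeal_mul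
      (H20.memRing_of_isIntegral (M := M) (isIntegral_one.sub hTi)) h2M)
    convert this using 1
    linear_combination hquad
  have hT1 : MemLocalIdeal M (T - 1) := by
    set A : AlgInt := ⟨T - 1, hTi.sub isIntegral_one⟩ with hA'
    have h1 : ((A ^ 2 : AlgInt) : ℂ) = (T - 1) ^ 2 := by push_cast [hA']; rfl
    rw [← h1, H20.memIdeal_coe_iff] at hsq
    exact (H20.memIdeal_coe_iff A).2 (Ideal.IsPrime.mem_of_pow_mem inferInstance 2 hsq)
  have hrinv := H20.inv_natCast_memRing hM (n := r) h.r_odd.not_two_dvd_nat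
  have hr0 : (r : ℂ) ≠ 0 := by exact_mod_cast h.prime.ne_zero
  have haT : D.a = (r : ℂ)⁻¹ * T := by rw [hT, inv_mul_cancel_left₀ hr0]
  refine ⟨by rw [haT]; exact H20.memRing_mul hrinv hTr, ?_⟩
  have := H20.memIdeal_mul hrinv (H20.memIdeal_add hT1
    (H20.memIdeal_mul (H20.memRing_intCast (-1)) hr1))
  convert this using 1
  rw [haT, hcast]
  push_cast
  field_simp
  ring

end EigenData

/-- A constituent of the permutation character is in the principal block. -/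
theorem Borel.mem_of_trivial (hM : IsPModular 2 M) (h : Borel B R T₀ r g₀)
    [Fintype (R ⊔ T₀ : Subgroup C)] {φ : IrrCharacter C}
    (hne : ∑ x : (R ⊔ T₀ : Subgroup C), (φ : C → ℂ) x ≠ 0) :
    φ ∈ principalBlock M C := by
  classical
  haveI := H20.isPrime_of_modular hM
  obtain ⟨D⟩ := h.exists_eigenData (ν := fun _ => (1 : ℂ)) (fun _ _ _ _ => (mul_one 1).symm)
    (fun _ _ => rfl) (φ := φ) (by simpa using hne)
  obtain ⟨k, hk⟩ := h.idx
  obtain ⟨θ, hθ⟩ := D.exists_theta h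
  intro g
  set Kin := Finset.univ.filter (fun x => IsConj g x ∧ x ∈ B) with hKin
  set Kout := Finset.univ.filter (fun x => IsConj g x ∧ x ∉ B) with hKout
  have hone : centralChar (fun _ : C => (1 : ℂ)) g = (Kin.card : ℂ) + (Kout.card : ℂ) := by
    simp only [centralChar, mul_one, div_one]
    rw [H24.index_centralizer_eq_card, ← Nat.cast_add]
    congr 1
    rw [hKin, hKout, ← Finset.filter_filter, ← Finset.filter_filter,
      Finset.card_filter_add_card_filter_not]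
  have hc : centralChar (φ : C → ℂ) g = ∑ x ∈ Kin, D.μ x + D.a * ∑ x ∈ Kout, θ x := by
    rw [D.central_eq g θ fun y hy => (hθ y hy).1, Finset.sum_ite, hKin, hKout,
      ← Finset.filter_filter, ← Finset.filter_filter, Finset.mul_sum]
    exact congrArg _ (Finset.sum_congr rfl fun x _ => mul_comm _ _)
  have h1 := memIdeal_sum_sub_card hM Kin D.μ (k := k)
    (fun x hx => D.pow_two_pow h hk (Finset.mem_filter.1 hx).2.2)
  have h2 := memIdeal_sum_sub_card hM Kout θ (k := k) (fun x hx => by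
    obtain ⟨b, hb, b', hb', he⟩ := (hθ x (Finset.mem_filter.1 hx).2.2).2
    rw [he, mul_pow, D.pow_two_pow h hk hb, D.pow_two_pow h hk hb', one_mul])
  show MemLocalIdeal M (centralChar (fun _ : C => (1 : ℂ)) g - centralChar (φ : C → ℂ) g)
  rw [hone, hc]
  by_cases hsym : ∀ e ∈ B, g₀⁻¹ * e * g₀ ∈ B → D.μ (g₀⁻¹ * e * g₀) = D.μ e
  · obtain ⟨ha, ha1⟩ := D.memIdeal_a_sub_one hM h hsym
    have h3 := H20.memIdeal_mul (H20.memRing_intCast (-1)) (H20.memIdeal_add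
      (H20.memIdeal_add h1 (H20.memIdeal_mul ha h2))
      (H20.memIdeal_mul (H20.memRing_natCast Kout.card) ha1))
    convert h3 using 1
    push_cast
    ring
  · push_neg at hsym
    obtain ⟨e, he, he', hne'⟩ := hsym
    have heven : MemLocalIdeal M (Kout.card : ℂ) := by
      rw [H20.natCast_memIdeal_iff hM]
      exact D.even_outside h he he' hne' g
    have h3 := H20.memIdeal_add (H20.memIdeal_mul (H20.memRing_intCast (-1)) h1) heven
    convert h3 using 1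
    rw [D.a_eq_zero he he' hne']
    push_cast
    ring

end H12.CSy
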