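import Cfsg.Agent.H76.CSy.Defs
import Cfsg.Agent.H12.CSy.BorelTriv
import Cfsg.Agent.H12.CSy.Section
import Cfsg.Agent.H12.Linear

/-!
# The second main theorem at the centre of a group like `SL₂(r).2`
-/

set_option autoImplicit false
set_option linter.unusedSectionVars false
set_option linter.style.haveILetI false

open Cfsg Subgroup Pointwise
open scoped ComplexConjugate

namespace H12.CSy

universe u

/-- A function on an abelian group killed by the nontrivial linear characters is constant. -/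
theorem eq_of_sum_linear {T : Type u} [Group T] [Fintype T] (hcomm : ∀ a b : T, a * b = b * a)
    (g : T → ℂ) (h : ∀ f : T →* ℂˣ, f ≠ 1 → ∑ d : T, g d * (f d : ℂ) = 0) (a b : T) :
    g a = g b := by
  classical
  have hcl : IsClassFunction T g := fun x y => by
    rw [show y * x * y⁻¹ = x by rw [hcomm y x, mul_inv_cancel_right]]
  have hg : ∀ c : T, g c = classInner g (H12.oneIrr T : T → ℂ) := by
    intro c
    rw [H12.classFunction_apply_eq_sum hcl c, Finset.sum_eq_single (H12.oneIrr T)]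
    · rw [H12.oneIrr_apply, mul_one]
    · intro χ _ hne
      obtain ⟨f, hf⟩ := H12.exists_monoidHom_of_apply_one_eq_one (H12.isCharacter_irr χ)
        (H12.irr_apply_one_of_comm hcomm χ)
      have hf1 : f⁻¹ ≠ 1 := by
        intro he
        refine hne (Subtype.ext ?_)
        rw [← hf]
        funext x
        rw [H12.oneIrr_apply]
        have hx := DFunLike.congr_fun he x
        rw [MonoidHom.inv_apply, MonoidHom.one_apply, inv_eq_one] at hx
        show ((f x : ℂˣ) : ℂ) = 1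
        rw [hx, Units.val_one]
      rw [H12.classInner_def]
      have : ∀ d : T, g d * conj ((χ : T → ℂ) d) = g d * ((f⁻¹ d : ℂˣ) : ℂ) := fun d => by
        rw [← H12.irr_inv χ d, show (χ : T → ℂ) d⁻¹ = (f d⁻¹ : ℂ) from (congrFun hf d⁻¹).symm]
        simp
      simp only [this, h _ hf1, mul_zero, zero_mul]
    · simp
  rw [hg a, hg b]

/-- The Borel configuration inside the centralizer. -/
theorem borel_subgroupOf {G : Type u} [Group G] [Finite G] {t g₀ : G} {B R T₀ : Subgroup G} {r : ℕ}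
    (hr : r.Prime) (hr2 : r ≠ 2) (hBC : B ≤ centralizer ({t} : Set G)) (hRB : R ≤ B) (hTB : T₀ ≤ B)
    (hcR : Nat.card R = r) (hTodd : Odd (Nat.card T₀)) (hnR : B ≤ normalizer (R : Set G))
    (hnH : B ≤ normalizer ((R ⊔ T₀ : Subgroup G) : Set G))
    (hidx : ∃ k : ℕ, (R ⊔ T₀).relIndex B = 2 ^ k)
    (hab : ∀ a ∈ B, ∀ b ∈ B, a * b * a⁻¹ * b⁻¹ ∈ R)
    (hfpf : ∀ d ∈ T₀, d ≠ 1 → ∀ ρ ∈ R, ρ ≠ 1 → ρ * d ≠ d * ρ)
    (hcC : Nat.card (centralizer ({t} : Set G)) = (r + 1) * Nat.card B)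
    (htwo : ∀ g ∈ centralizer ({t} : Set G), g ∉ B →
      r * Nat.card {b : G // b ∈ B ∧ g⁻¹ * b * g ∈ B} = Nat.card B)
    (hg₀ : g₀ ∈ centralizer ({t} : Set G)) (hg₀B : g₀ ∉ B)
    (hinv : ∀ d ∈ T₀, g₀ * d * g₀⁻¹ = d⁻¹)
    (hcent : ∀ d ∈ T₀, d ≠ 1 → Nat.card (centralizer ({t, d} : Set G)) * (r * (r + 1)) =
      Nat.card (centralizer ({t} : Set G)))
    (hfix : ∀ d ∈ T₀, d ≠ 1 → ∀ g ∈ centralizer ({t} : Set G), g⁻¹ * d * g ∈ B →
      g ∈ B ∨ g₀⁻¹ * g ∈ B) :
    Borel (B.subgroupOf (centralizer ({t} : Set G))) (R.subgroupOf (centralizer ({t} : Set G)))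
      (T₀.subgroupOf (centralizer ({t} : Set G))) r ⟨g₀, hg₀⟩ := by
  set C : Subgroup G := centralizer ({t} : Set G) with hC
  have hRC : R ≤ C := hRB.trans hBC
  have hTC : T₀ ≤ C := hTB.trans hBC
  have hsup : R.subgroupOf C ⊔ T₀.subgroupOf C = (R ⊔ T₀).subgroupOf C :=
    (Subgroup.subgroupOf_sup hRC hTC).symm
  refine
    { prime := hr
      odd := hr2
      R_le := fun x hx => hRB hx
      T_le := fun x hx => hTB hx
      card_R := (Nat.card_congr (Subgroup.subgroupOfEquivOfLe hRC).toEquiv).trans hcR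
      T_odd := by rwa [Nat.card_congr (Subgroup.subgroupOfEquivOfLe hTC).toEquiv]
      normR := fun x hx => Subgroup.mem_normalizer_iff.2 fun y =>
        Subgroup.mem_normalizer_iff.1 (hnR hx) (y : G)
      normH := fun x hx => by
        rw [hsup]
        exact Subgroup.mem_normalizer_iff.2 fun y =>
          Subgroup.mem_normalizer_iff.1 (hnH hx) (y : G)
      idx := by rwa [hsup, Subgroup.relIndex_subgroupOf hBC]
      comm := fun a ha b hb => hab _ ha _ hb
      fpf := fun d hd hd1 ρ hρ hρ1 he => hfpf _ hd (fun e => hd1 (Subtype.ext e)) _ hρ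
        (fun e => hρ1 (Subtype.ext e)) (congrArg Subtype.val he)
      card_C := by rw [hcC, Nat.card_congr (Subgroup.subgroupOfEquivOfLe hBC).toEquiv]
      two := fun g hg => ?_
      g₀_notMem := hg₀B
      inv := fun d hd => Subtype.ext (hinv _ hd)
      cent := fun d hd hd1 => ?_
      fix := fun d hd hd1 g hg => hfix _ hd (fun e => hd1 (Subtype.ext e)) g g.2 hg }
  · rw [Nat.card_congr (Subgroup.subgroupOfEquivOfLe hBC).toEquiv, ← htwo g g.2 hg]
    congr 1
    exact Nat.card_congr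
      { toFun := fun b => ⟨b.1, b.2.1, b.2.2⟩
        invFun := fun b => ⟨⟨b.1, hBC b.2.1⟩, b.2.1, b.2.2⟩
        left_inv := fun b => rfl
        right_inv := fun b => rfl }
  · rw [← hcent _ hd fun e => hd1 (Subtype.ext e)]
    congr 1
    have hmem : ∀ x : G, x ∈ centralizer ({t, (d : G)} : Set G) ↔ x ∈ C ∧ x * d = d * x := by
      intro x
      simp only [hC, Subgroup.mem_centralizer_iff, Set.mem_insert_iff, Set.mem_singleton_iff,
        forall_eq_or_imp, forall_eq]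
      exact ⟨fun h => ⟨h.1, h.2.symm⟩, fun h => ⟨h.1, h.2.symm⟩⟩
    exact Nat.card_congr
      { toFun := fun x => ⟨((x : C) : G), (hmem _).2 ⟨(x : C).2,
          congrArg Subtype.val (Subgroup.mem_centralizer_singleton_iff.1 x.2)⟩⟩
        invFun := fun x => ⟨⟨(x : G), ((hmem _).1 x.2).1⟩,
          Subgroup.mem_centralizer_singleton_iff.2 (Subtype.ext ((hmem _).1 x.2).2)⟩
        left_inv := fun x => rfl
        right_inv := fun x => rfl }

theorem borelMean : H76.CSy.BorelMeanStmt.{u} := by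
  intro G _ _ M hM t g₀ B R T₀ r ht hr hr2 hBC _ hRB hTB hcR hTodd hnR hnH hidx hab hfpf hcC htwo
    hg₀ hg₀B hinv hcent hfix
  classical
  haveI := Fintype.ofFinite G
  have hb := borel_subgroupOf hr hr2 hBC hRB hTB hcR hTodd hnR hnH hidx hab hfpf hcC htwo hg₀ hg₀B
    hinv hcent hfix
  set C : Subgroup G := centralizer ({t} : Set G) with hC
  haveI : Fintype C := Fintype.ofFinite _
  have hRC : R ≤ C := hRB.trans hBC
  have hTC : T₀ ≤ C := hTB.trans hBC
  set R' : Subgroup C := R.subgroupOf C with hR'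
  set T' : Subgroup C := T₀.subgroupOf C with hT'
  haveI : Fintype (R' ⊔ T' : Subgroup C) := Fintype.ofFinite _
  have hx : ∃ k : ℕ, orderOf t = 2 ^ k := ⟨1, by rw [ht]; rfl⟩
  have hreg : ∀ h ∈ R' ⊔ T', ¬ 2 ∣ orderOf h := fun h hh => hb.not_dvd_of_mem_H hh
  have hsup : R' ⊔ T' = (R ⊔ T₀).subgroupOf C := (Subgroup.subgroupOf_sup hRC hTC).symm
  refine ⟨fun χ hχ => ?_, fun χ hχ d hd hd1 => ?_⟩
  · haveI : Fintype (R ⊔ T₀ : Subgroup G) := Fintype.ofFinite _
    have h := section_sum_of_notMem hM hx hχ (R' ⊔ T') hreg (fun _ => 1) (fun φ hφ => by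
      by_contra hne
      exact hφ (hb.mem_of_trivial hM (φ := φ) (by simpa using hne)))
    rw [finsum_eq_sum_of_fintype]
    refine Eq.trans ?_ h
    exact (Fintype.sum_equiv ((MulEquiv.subgroupCongr hsup).trans
      (Subgroup.subgroupOfEquivOfLe (sup_le hRC hTC))).toEquiv _ _ fun x => by simp).symm
  · haveI : Fintype R := Fintype.ofFinite _
    haveI : Fintype R' := Fintype.ofFinite _
    haveI : Fintype T' := Fintype.ofFinite _
    have hcomm : ∀ a b : T', a * b = b * a := fun a b => by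
      have h1 : (a : C) * b * (a : C)⁻¹ * (b : C)⁻¹ ∈ R' ⊓ T' :=
        Subgroup.mem_inf.2 ⟨hb.comm _ (hb.T_le a.2) _ (hb.T_le b.2),
          mul_mem (mul_mem (mul_mem a.2 b.2) (inv_mem a.2)) (inv_mem b.2)⟩
      rw [hb.inf_eq_bot, Subgroup.mem_bot, mul_inv_eq_one, mul_inv_eq_iff_eq_mul] at h1
      exact Subtype.ext h1
    let g : T' → ℂ := fun e => ∑ ρ : R', (χ : G → ℂ) (t * (((ρ : C) : G) * ((e : C) : G)))
    let e : R' × T' ≃ (R' ⊔ T' : Subgroup C) := Equiv.ofBijective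
      (fun q => ⟨(q.1 : C) * q.2, mul_mem (mem_sup_left q.1.2) (mem_sup_right q.2.2)⟩)
      ⟨fun q q' he => by
        obtain ⟨e1, e2⟩ := hb.eq_of_mul_eq q.1.2 q'.1.2 q.2.2 q'.2.2 (congrArg Subtype.val he)
        exact Prod.ext (Subtype.ext e1) (Subtype.ext e2),
      fun x => by
        obtain ⟨ρ, hρ, y, hy, he⟩ := hb.mem_H_iff.1 x.2
        exact ⟨(⟨ρ, hρ⟩, ⟨y, hy⟩), Subtype.ext he⟩⟩
    have horth : ∀ f : T' →* ℂˣ, f ≠ 1 → ∑ y : T', g y * (f y : ℂ) = 0 := by
      intro f hf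
      let ν : C → ℂ := fun x => if hx' : x ∈ R' ⊔ T' then (f (e.symm ⟨x, hx'⟩).2 : ℂ) else 0
      have hνval : ∀ (ρ : R') (y : T'), ν ((ρ : C) * y) = (f y : ℂ) := fun ρ y => by
        have hm : (ρ : C) * y ∈ R' ⊔ T' := mul_mem (mem_sup_left ρ.2) (mem_sup_right y.2)
        simp only [ν, dif_pos hm]
        rw [show (⟨_, hm⟩ : (R' ⊔ T' : Subgroup C)) = e (ρ, y) from rfl, Equiv.symm_apply_apply]
      have hνmul : ∀ x ∈ R' ⊔ T', ∀ y ∈ R' ⊔ T', ν (x * y) = ν x * ν y := by
        intro x hx' y hy'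
        obtain ⟨ρ, hρ, a, ha, rfl⟩ := hb.mem_H_iff.1 hx'
        obtain ⟨σ, hσ, b, hb', rfl⟩ := hb.mem_H_iff.1 hy'
        have hconj : a * σ * a⁻¹ ∈ R' :=
          (Subgroup.mem_normalizer_iff.1 (hb.normR (hb.T_le ha)) σ).1 hσ
        rw [show ρ * a * (σ * b) = (ρ * (a * σ * a⁻¹)) * (a * b) by group,
          hνval ⟨_, mul_mem hρ hconj⟩ ⟨_, mul_mem ha hb'⟩, hνval ⟨ρ, hρ⟩ ⟨a, ha⟩,
          hνval ⟨σ, hσ⟩ ⟨b, hb'⟩, ← Units.val_mul, ← map_mul]
        rfl
      have hνR : ∀ x ∈ R', ν x = 1 := fun x hx' => by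
        rw [show x = ((⟨x, hx'⟩ : R') : C) * ((1 : T') : C) by simp, hνval, map_one, Units.val_one]
      obtain ⟨y₀, hy₀⟩ : ∃ y, f y ≠ 1 := by
        by_contra! hall
        exact hf (MonoidHom.ext hall)
      have hν1 : ν (y₀ : C) ≠ 1 := by
        rw [show (y₀ : C) = ((1 : R') : C) * y₀ by simp, hνval]
        exact fun he => hy₀ (Units.ext (by simpa using he))
      have h := section_sum_of_mem hM hx hχ (R' ⊔ T') hreg ν (fun φ hφ => by
        by_contra hne
        exact hb.notMem_of_nontrivial hM hνmul hνR y₀.2 hν1 hne hφ)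
      rw [← Equiv.sum_comp e, Fintype.sum_prod_type_right] at h
      refine Eq.trans (Finset.sum_congr rfl fun y _ => ?_) h
      rw [Finset.sum_mul]
      refine Finset.sum_congr rfl fun ρ _ => ?_
      rw [show ((e (ρ, y) : (R' ⊔ T' : Subgroup C)) : C) = (ρ : C) * y from rfl, hνval,
        Subgroup.coe_mul, mul_comm]
    have hconst := eq_of_sum_linear hcomm g horth (⟨⟨d, hTC hd⟩, hd⟩ : T') 1
    have hterm : ∀ ρ : R', (χ : G → ℂ) (t * (((ρ : C) : G) * d)) = (χ : G → ℂ) (t * d) := by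
      intro ρ
      obtain ⟨c, -, hc⟩ := hb.exists_conj (d := (⟨d, hTC hd⟩ : C)) hd
        (fun e => hd1 (congrArg Subtype.val e)) (ρ := (ρ : C)) ρ.2
      have hc' : (c : G) * d * (c : G)⁻¹ = ((ρ : C) : G) * d := congrArg Subtype.val hc
      have hct : (c : G) * t = t * (c : G) := Subgroup.mem_centralizer_singleton_iff.1 c.2
      rw [show t * (((ρ : C) : G) * d) = (c : G) * (t * d) * (c : G)⁻¹ by
        rw [← hc', ← mul_assoc (c : G) t, hct]; group]
      exact H12.irr_isClassFunction χ _ _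
    have hgd : g (⟨⟨d, hTC hd⟩, hd⟩ : T') = (r : ℂ) * (χ : G → ℂ) (t * d) := by
      simp only [g]
      rw [Fintype.sum_congr _ (fun _ => (χ : G → ℂ) (t * d)) hterm,
        Finset.sum_const, Finset.card_univ, ← Nat.card_eq_fintype_card, hb.card_R, nsmul_eq_mul]
    rw [hgd] at hconst
    rw [hconst, finsum_eq_sum_of_fintype]
    simp only [g, OneMemClass.coe_one, mul_one]
    exact (Fintype.sum_equiv (Subgroup.subgroupOfEquivOfLe hRC).toEquiv _ _ fun x => by simp).symm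

end H12.CSy
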