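import Cfsg.Agent.H12.CSy.BorelBase
import Cfsg.Agent.H20.LocalRing

/-!
# Nontrivial characters of the torus lie outside the principal block
-/

set_option autoImplicit false
set_option linter.unusedSectionVars false
set_option linter.style.haveILetI false

open Cfsg Subgroup

namespace H12.CSy

universe u

variable {C : Type u} [Group C] [Fintype C] {B R T₀ : Subgroup C} {r : ℕ} {g₀ : C}
  {M : Ideal AlgInt}

theorem apply_one_of_mul {μ : C → ℂ} (hmul : ∀ x ∈ B, ∀ y ∈ B, μ (x * y) = μ x * μ y)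
    (h0 : ∀ x ∈ B, μ x ≠ 0) : μ 1 = 1 := by
  have := hmul 1 B.one_mem 1 B.one_mem
  rw [one_mul] at this
  exact (mul_eq_left₀ (h0 1 B.one_mem)).1 this.symm

theorem apply_pow_of_mul {μ : C → ℂ} (hmul : ∀ x ∈ B, ∀ y ∈ B, μ (x * y) = μ x * μ y)
    (h0 : ∀ x ∈ B, μ x ≠ 0) {b : C} (hb : b ∈ B) (m : ℕ) : μ (b ^ m) = μ b ^ m := by
  induction m with
  | zero => rw [pow_zero, pow_zero, apply_one_of_mul hmul h0]
  | succ m ih => rw [pow_succ, pow_succ, hmul _ (pow_mem hb m) _ hb, ih]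

theorem apply_inv_of_mul {μ : C → ℂ} (hmul : ∀ x ∈ B, ∀ y ∈ B, μ (x * y) = μ x * μ y)
    (h0 : ∀ x ∈ B, μ x ≠ 0) {b : C} (hb : b ∈ B) : μ b⁻¹ = (μ b)⁻¹ :=
  eq_inv_of_mul_eq_one_left (by
    rw [← hmul _ (inv_mem hb) _ hb, inv_mul_cancel, apply_one_of_mul hmul h0])

namespace EigenData

variable {φ : IrrCharacter C} {H : Subgroup C} {ν : C → ℂ} (D : EigenData φ B H g₀ ν)

/-- The action of an element of the second double coset. -/
theorem proj_decomp {b b' : C} (hb : b ∈ B) (hb' : b' ∈ B) :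
    proj D.ρ B D.μ (D.ρ (b * g₀ * b') D.v) = (D.μ b * D.μ b' * D.a) • D.v := by
  rw [map_mul, map_mul, Module.End.mul_apply, Module.End.mul_apply, D.eigen b' hb', map_smul,
    map_smul, map_smul, proj_rho D.mul D.ne_zero hb, D.eigen₀, smul_smul, smul_smul]
  congr 1
  ring

theorem proj_of_B {b : C} (hb : b ∈ B) :
    proj D.ρ B D.μ (D.ρ b D.v) = D.μ b • D.v := by
  rw [proj_rho D.mul D.ne_zero hb, proj_of_mem D.ne_zero D.eigen]

open Classical in
/-- The central character from the two double cosets. -/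
theorem central_eq (g : C) (θ : C → ℂ)
    (hθ : ∀ x, x ∉ B → proj D.ρ B D.μ (D.ρ x D.v) = (θ x * D.a) • D.v) :
    centralChar (φ : C → ℂ) g = ∑ x ∈ Finset.univ.filter (fun x => IsConj g x),
      if x ∈ B then D.μ x else θ x * D.a := by
  haveI := D.irr
  have h1 : ∑ x ∈ Finset.univ.filter (fun x => IsConj g x), D.ρ x =
      centralChar (φ : C → ℂ) g • (1 : Module.End ℂ (Fin D.n → ℂ)) := by
    rw [H24.sum_rep_eq_smul D.ρ _ (H24.class_invariant g), D.char, H24.sum_class_irr]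
    rfl
  have h2 : proj D.ρ B D.μ ((∑ x ∈ Finset.univ.filter (fun x => IsConj g x), D.ρ x) D.v) =
      centralChar (φ : C → ℂ) g • D.v := by
    rw [h1, LinearMap.smul_apply, Module.End.one_apply, map_smul,
      proj_of_mem D.ne_zero D.eigen]
  rw [LinearMap.sum_apply, map_sum] at h2
  refine smul_left_injective ℂ D.v_ne ?_
  simp only [← h2, Finset.sum_smul]
  refine Finset.sum_congr rfl fun x _ => ?_
  split_ifs with hx
  · exact D.proj_of_B hx
  · exact hθ x hx

theorem exists_theta (h : Borel B R T₀ r g₀) : ∃ θ : C → ℂ,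
    ∀ x, x ∉ B → proj D.ρ B D.μ (D.ρ x D.v) = (θ x * D.a) • D.v ∧
      ∃ b ∈ B, ∃ b' ∈ B, θ x = D.μ b * D.μ b' := by
  classical
  refine ⟨fun x => if hx : x ∈ B then 0 else D.μ (h.exists_decomp hx).choose *
    D.μ (h.exists_decomp hx).choose_spec.2.choose, fun x hx => ?_⟩
  obtain ⟨hb, hb', he⟩ : (h.exists_decomp hx).choose ∈ B ∧
      (h.exists_decomp hx).choose_spec.2.choose ∈ B ∧
      x = (h.exists_decomp hx).choose * g₀ * (h.exists_decomp hx).choose_spec.2.choose :=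
    ⟨(h.exists_decomp hx).choose_spec.1, (h.exists_decomp hx).choose_spec.2.choose_spec.1,
      (h.exists_decomp hx).choose_spec.2.choose_spec.2⟩
  simp only [dif_neg hx]
  exact ⟨by conv_lhs => rw [he]
            exact D.proj_decomp hb hb', _, hb, _, hb', rfl⟩

/-- If `μ` is not symmetric, the second double coset acts by zero. -/
theorem a_eq_zero {e : C} (he : e ∈ B) (he' : g₀⁻¹ * e * g₀ ∈ B)
    (hne : D.μ (g₀⁻¹ * e * g₀) ≠ D.μ e) : D.a = 0 := by
  have h1 : proj D.ρ B D.μ (D.ρ (e * g₀ * 1) D.v) = proj D.ρ B D.μ (D.ρ (1 * g₀ * (g₀⁻¹ * e * g₀)) D.v) := by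
    congr 3
    group
  rw [D.proj_decomp he B.one_mem, D.proj_decomp B.one_mem he', apply_one_of_mul D.mul D.ne_zero]
    at h1
  have h2 := smul_left_injective ℂ D.v_ne h1
  simp only [mul_one, one_mul] at h2
  rcases mul_eq_zero.1 (show (D.μ (g₀⁻¹ * e * g₀) - D.μ e) * D.a = 0 by
    linear_combination -h2) with h3 | h3
  · exact absurd (sub_eq_zero.1 h3) hne
  · exact h3

end EigenData

/-- A character with a nontrivial eigen-character on the torus is outside the principal block. -/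
theorem Borel.notMem_of_nontrivial (hM : IsPModular 2 M) (h : Borel B R T₀ r g₀) {ν : C → ℂ}
    (hν : ∀ x ∈ R ⊔ T₀, ∀ y ∈ R ⊔ T₀, ν (x * y) = ν x * ν y) (hν1 : ∀ x ∈ R, ν x = 1)
    {d : C} (hd : d ∈ T₀) (hνd : ν d ≠ 1) [Fintype (R ⊔ T₀ : Subgroup C)] {φ : IrrCharacter C}
    (hne : ∑ x : (R ⊔ T₀ : Subgroup C), ν x * (φ : C → ℂ) x ≠ 0) :
    φ ∉ principalBlock M C := by
  classical
  haveI := H20.isPrime_of_modular hM
  intro hmem
  obtain ⟨D⟩ := h.exists_eigenData hν hν1 hne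
  have hdH : d ∈ R ⊔ T₀ := mem_sup_right hd
  have hdB : d ∈ B := h.T_le hd
  set x := D.μ d with hx
  have hx1 : x ≠ 1 := fun he => hνd (inv_eq_one.1 (by rw [← D.onH d hdH]; exact he))
  have hx0 : x ≠ 0 := D.ne_zero d hdB
  have hd1 : d ≠ 1 := fun he => hx1 (by rw [hx, he, apply_one_of_mul D.mul D.ne_zero])
  have hxm : x ^ Nat.card T₀ = 1 := by
    rw [hx, ← apply_pow_of_mul D.mul D.ne_zero hdB,
      show d ^ Nat.card T₀ = 1 from congrArg Subtype.val (pow_card_eq_one' (x := (⟨d, hd⟩ : T₀))),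
      apply_one_of_mul D.mul D.ne_zero]
  have hxne : x ^ 2 ≠ 1 := fun h2 => hx1 (by
    obtain ⟨j, hj⟩ := h.T_odd
    rw [hj, pow_succ, pow_mul, h2, one_pow, one_mul] at hxm
    exact hxm)
  have hgd : g₀⁻¹ * d * g₀ = d⁻¹ := by
    calc g₀⁻¹ * d * g₀ = g₀⁻¹ * (g₀ * d * g₀⁻¹)⁻¹ * g₀ := by rw [h.inv d hd, inv_inv]
      _ = d⁻¹ := by group
  have ha : D.a = 0 := D.a_eq_zero hdB (by rw [hgd]; exact inv_mem hdB) (by
    rw [hgd, apply_inv_of_mul D.mul D.ne_zero hdB]
    intro he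
    exact hxne (by rw [pow_two]; nth_rw 1 [hx, ← he]; exact inv_mul_cancel₀ hx0))
  set K := Finset.univ.filter (fun y : C => IsConj d y) with hK
  obtain ⟨θ, hθ⟩ := D.exists_theta h
  have hc : centralChar (φ : C → ℂ) d = ∑ y ∈ K.filter (· ∈ B), D.μ y := by
    rw [D.central_eq d θ fun y hy => (hθ y hy).1]
    conv_rhs => rw [Finset.sum_filter]
    refine Finset.sum_congr rfl fun y _ => ?_
    simp [ha]
  have hdi : d⁻¹ ∈ T₀ := inv_mem hd
  let f : R × Bool → C := fun q => (q.1 : C) * if q.2 then d else d⁻¹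
  have hfinj : Function.Injective f := by
    rintro ⟨a, i⟩ ⟨b, j⟩ he
    obtain ⟨e1, e2⟩ := h.eq_of_mul_eq a.2 b.2 (by cases i <;> simp [hd, hdi])
      (by cases j <;> simp [hd, hdi]) he
    have hdd : d ≠ d⁻¹ := fun e => hxne (by
      rw [pow_two]
      nth_rw 1 [hx, e, apply_inv_of_mul D.mul D.ne_zero hdB]
      exact inv_mul_cancel₀ hx0)
    refine Prod.ext (Subtype.ext e1) ?_
    cases i <;> cases j <;> simp_all
  have himg : K.filter (· ∈ B) = Finset.univ.image f := by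
    ext y
    simp only [hK, Finset.mem_filter, Finset.mem_univ, true_and, Finset.mem_image]
    constructor
    · rintro ⟨hy, hyB⟩
      obtain ⟨c, hc'⟩ := isConj_iff.1 hy
      have hfix := h.fix d hd hd1 c⁻¹ (by rw [inv_inv, hc']; exact hyB)
      rcases hfix with hcB | hcB
      · have hcB' : c ∈ B := by simpa using inv_mem hcB
        refine ⟨(⟨c * d * c⁻¹ * d⁻¹, h.comm c hcB' d hdB⟩, true), ?_⟩
        simp [f, ← hc']
      · have hbB : c * g₀ ∈ B := by simpa using inv_mem hcB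
        refine ⟨(⟨(c * g₀) * d⁻¹ * (c * g₀)⁻¹ * d, by
          simpa using h.comm _ hbB _ (inv_mem hdB)⟩, false), ?_⟩
        simp only [f, Bool.false_eq_true, if_false, ← hc', mul_inv_cancel_right]
        rw [← hgd]
        group
    · rintro ⟨⟨ρ, i⟩, rfl⟩
      cases i
      · obtain ⟨c, -, hc'⟩ := h.exists_conj hdi (inv_ne_one.2 hd1) ρ.2
        refine ⟨(isConj_iff.2 ⟨g₀, h.inv d hd⟩).trans (isConj_iff.2 ⟨c, by simpa [f] using hc'⟩), ?_⟩
        simpa [f] using mul_mem (h.R_le ρ.2) (inv_mem hdB)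
      · obtain ⟨c, -, hc'⟩ := h.exists_conj hd hd1 ρ.2
        exact ⟨isConj_iff.2 ⟨c, by simpa [f] using hc'⟩,
          by simpa [f] using mul_mem (h.R_le ρ.2) hdB⟩
  have hμR : ∀ ρ : R, D.μ ρ = 1 := fun ρ => by
    rw [D.onH _ (mem_sup_left ρ.2), hν1 _ ρ.2, inv_one]
  have hcval : centralChar (φ : C → ℂ) d = (r : ℂ) * (x + x⁻¹) := by
    have hterm : ∀ ρ : R, D.μ (f (ρ, true)) + D.μ (f (ρ, false)) = x + x⁻¹ := fun ρ => by
      simp only [f, if_true, Bool.false_eq_true, if_false,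
        D.mul _ (h.R_le ρ.2) _ hdB, D.mul _ (h.R_le ρ.2) _ (inv_mem hdB), hμR ρ, one_mul,
        apply_inv_of_mul D.mul D.ne_zero hdB, ← hx]
    rw [hc, himg, Finset.sum_image hfinj.injOn, Fintype.sum_prod_type]
    simp only [Fintype.sum_bool, hterm]
    rw [Finset.sum_const, Finset.card_univ, ← Nat.card_eq_fintype_card, h.card_R, nsmul_eq_mul]
  have h0 := hmem d
  rw [hcval] at h0
  rw [show centralChar (fun _ : C => (1 : ℂ)) d = ((r * (r + 1) : ℕ) : ℂ) by
    simp [centralChar, h.index_cent hd hd1]] at h0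
  have h2M := H20.memIdeal_p hM
  have hev : MemLocalIdeal M ((r * (r + 1) : ℕ) : ℂ) := by
    rw [H20.natCast_memIdeal_iff hM]
    exact (Nat.even_mul_succ_self r).two_dvd
  have h3 : MemLocalIdeal M ((r : ℂ) * (x + x⁻¹)) := by
    have := H20.memIdeal_add hev (H20.memIdeal_mul (H20.memRing_intCast (-1)) h0)
    convert this using 1
    push_cast
    ring
  have hxr : MemLocalRing M x :=
    H20.memRing_of_pow_eq_one Nat.card_pos hxm
  have h4 : MemLocalIdeal M (x ^ 2 + 1) := by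
    have := H20.memIdeal_mul (H20.memRing_mul hxr
      (H20.inv_natCast_memRing hM (n := r) h.r_odd.not_two_dvd_nat)) h3
    convert this using 1
    have hr0 : (r : ℂ) ≠ 0 := by exact_mod_cast h.prime.ne_zero
    field_simp
  have h5 : MemLocalIdeal M (x ^ 2 - 1) := by
    have := H20.memIdeal_add h4 (H20.memIdeal_mul (H20.memRing_intCast (-1)) h2M)
    convert this using 1
    push_cast
    ring
  exact hxne (H20.eq_one_of_pow_eq_one hM h.T_odd.not_two_dvd_nat
    (by rw [← pow_mul, mul_comm, pow_mul, hxm, one_pow]) h5)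

end H12.CSy
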