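import Cfsg.Agent.H12.Orth
import Mathlib.RingTheory.Artinian.Module

/-!
# Joint eigenvectors and the projection to a linear character of a subgroup
-/

set_option autoImplicit false
set_option linter.unusedSectionVars false
set_option linter.style.haveILetI false

open Module

namespace H12.CSy

universe u v

section Joint

variable {V : Type v} [AddCommGroup V] [Module ℂ V] [FiniteDimensional ℂ V]

/-- An operator has an eigenvector in a nonzero invariant subspace. -/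
theorem exists_eigen {U : Submodule ℂ V} (hU : U ≠ ⊥) (A : Module.End ℂ V)
    (hA : ∀ w ∈ U, A w ∈ U) : ∃ w ∈ U, w ≠ 0 ∧ ∃ a : ℂ, A w = a • w := by
  haveI : Nontrivial U := Submodule.nontrivial_iff_ne_bot.2 hU
  obtain ⟨a, ha⟩ := Module.End.exists_eigenvalue (LinearMap.restrict A hA : Module.End ℂ U)
  obtain ⟨w, hw⟩ := ha.exists_hasEigenvector
  exact ⟨w, w.2, fun h => hw.2 (Subtype.ext h), a, congrArg Subtype.val hw.apply_eq_smul⟩

/-- Operators commuting on a nonzero invariant subspace have a joint eigenvector in it. -/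
theorem exists_joint_eigen {ι : Type*} {U : Submodule ℂ V} (hU : U ≠ ⊥)
    (f : ι → Module.End ℂ V) (hinv : ∀ i, ∀ w ∈ U, f i w ∈ U)
    (hcomm : ∀ i j, ∀ w ∈ U, f i (f j w) = f j (f i w)) :
    ∃ w ∈ U, w ≠ 0 ∧ ∀ i, ∃ c : ℂ, f i w = c • w := by
  set S : Set (Submodule ℂ V) := {W | W ≠ ⊥ ∧ W ≤ U ∧ ∀ i, ∀ w ∈ W, f i w ∈ W} with hS
  obtain ⟨W, ⟨hW0, hWU, hWi⟩, hmin⟩ :=
    (wellFounded_lt (α := Submodule ℂ V)).has_min S ⟨U, hU, le_rfl, hinv⟩
  obtain ⟨w, hw, hw0⟩ := Submodule.exists_mem_ne_zero_of_ne_bot hW0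
  refine ⟨w, hWU hw, hw0, fun i => ?_⟩
  obtain ⟨z, hz, hz0, c, hc⟩ := exists_eigen hW0 (f i) (hWi i)
  let W' : Submodule ℂ V := W ⊓ Module.End.eigenspace (f i) c
  have hmem : ∀ y, y ∈ W' ↔ y ∈ W ∧ f i y = c • y := fun y => by
    simp [W', Module.End.mem_eigenspace_iff]
  have hW' : W' ∈ S := by
    refine ⟨fun h => hz0 ((Submodule.eq_bot_iff _).1 h z ((hmem z).2 ⟨hz, hc⟩)),
      inf_le_left.trans hWU, fun j y hy => ?_⟩
    obtain ⟨hy1, hy2⟩ := (hmem y).1 hy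
    exact (hmem _).2 ⟨hWi j y hy1, by rw [hcomm i j y (hWU hy1), hy2, map_smul]⟩
  have hle : W ≤ W' := le_of_eq (Classical.byContradiction fun h : ¬ W = W' =>
    hmin W' hW' (lt_of_le_of_ne inf_le_left fun e => h e.symm))
  exact ⟨c, ((hmem w).1 (hle hw)).2⟩

end Joint

section Proj

variable {G : Type u} [Group G] [Fintype G] {V : Type v} [AddCommGroup V] [Module ℂ V]

open Classical in
/-- The projection to the `μ`-vectors of a subgroup. -/
noncomputable def proj (ρ : Representation ℂ G V) (B : Subgroup G) (μ : G → ℂ) : Module.End ℂ V :=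
  (Nat.card B : ℂ)⁻¹ • ∑ b : B, (μ b)⁻¹ • ρ b

open Classical in
theorem proj_apply (ρ : Representation ℂ G V) (B : Subgroup G) (μ : G → ℂ) (w : V) :
    proj ρ B μ w = (Nat.card B : ℂ)⁻¹ • ∑ b : B, (μ b)⁻¹ • ρ b w := by
  simp [proj, LinearMap.sum_apply]

variable {ρ : Representation ℂ G V} {B : Subgroup G} {μ : G → ℂ}

theorem proj_rho (hmul : ∀ x ∈ B, ∀ y ∈ B, μ (x * y) = μ x * μ y) (h0 : ∀ x ∈ B, μ x ≠ 0)
    {b : G} (hb : b ∈ B) (w : V) : proj ρ B μ (ρ b w) = μ b • proj ρ B μ w := by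
  classical
  rw [proj_apply, proj_apply, smul_comm (μ b), Finset.smul_sum (r := μ b)]
  congr 1
  refine Fintype.sum_equiv (Equiv.mulRight (⟨b, hb⟩ : B)) _ _ fun c => ?_
  simp only [Equiv.coe_mulRight, Subgroup.coe_mul, map_mul, Module.End.mul_apply, smul_smul,
    hmul _ c.2 _ hb, mul_inv]
  rw [mul_left_comm, mul_inv_cancel₀ (h0 b hb), mul_one]

theorem rho_proj (hmul : ∀ x ∈ B, ∀ y ∈ B, μ (x * y) = μ x * μ y) (h0 : ∀ x ∈ B, μ x ≠ 0)
    {b : G} (hb : b ∈ B) (w : V) : ρ b (proj ρ B μ w) = μ b • proj ρ B μ w := by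
  classical
  rw [proj_apply, map_smul, map_sum, smul_comm (μ b), Finset.smul_sum (r := μ b)]
  congr 1
  refine Fintype.sum_equiv (Equiv.mulLeft (⟨b, hb⟩ : B)) _ _ fun c => ?_
  simp only [Equiv.coe_mulLeft, Subgroup.coe_mul, map_mul, Module.End.mul_apply, smul_smul,
    map_smul, hmul _ hb _ c.2, mul_inv]
  rw [← mul_assoc, mul_inv_cancel₀ (h0 b hb), one_mul]

theorem proj_of_mem (h0 : ∀ x ∈ B, μ x ≠ 0) {w : V} (hw : ∀ b ∈ B, ρ b w = μ b • w) :
    proj ρ B μ w = w := by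
  classical
  rw [proj_apply, Finset.sum_congr rfl fun (b : B) _ => by
    rw [hw b b.2, smul_smul, inv_mul_cancel₀ (h0 b b.2), one_smul], Finset.sum_const,
    Finset.card_univ, ← Nat.card_eq_fintype_card, ← Nat.cast_smul_eq_nsmul ℂ, smul_smul,
    inv_mul_cancel₀ (by exact_mod_cast (Nat.card_pos (α := B)).ne'), one_smul]

end Proj

end H12.CSy
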