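import Cfsg.Agent.H76.CSy.Defs
import Cfsg.Agent.H24.PrincipalQuot
import Cfsg.Agent.H25.GaloisExtend

/-!
# An exceptional character of large Galois orbit is outside the principal 2-block
-/

set_option autoImplicit false
set_option linter.unusedSectionVars false
set_option linter.style.haveILetI false

open Cfsg Subgroup Finset

namespace H12.CSy

universe u

/-- Three pairs of exponents `±1, ±2, ±4` and the trivial one are independent off the origin,
given the degree condition. -/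
theorem coeff_eq_zero {n : ℕ} (hn : 7 ≤ n) (hodd : Odd n) {ω : ℂ} (hω : IsPrimitiveRoot ω n) (ε d : ℤ)
    (hε : ε = 1 ∨ ε = -1) (c0 c1 c2 c4 : ℂ)
    (h0 : c0 + (c1 + c2 + c4) * (d : ℂ) = 0)
    (h : ∀ i ∈ Finset.Ico 1 n, c0 + (ε : ℂ) * (c1 * (ω ^ (1 * i) + ω ^ ((n - 1) * i)) +
      c2 * (ω ^ (2 * i) + ω ^ ((n - 2) * i)) + c4 * (ω ^ (4 * i) + ω ^ ((n - 4) * i))) = 0) :
    c0 = 0 ∧ c1 = 0 ∧ c2 = 0 ∧ c4 = 0 := by
  set S : ℕ → ℂ := fun m => ∑ i ∈ range n, ω ^ (m * i) with hS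
  have hdvd : ∀ m, n ∣ m → S m = n := fun m hm => by
    simp only [hS, pow_mul, (hω.pow_eq_one_iff_dvd m).2 hm, one_pow, Finset.sum_const,
      Finset.card_range, nsmul_eq_mul, mul_one]
  have hnd : ∀ m q, n * q < m → m < n * q + n → S m = 0 := fun m q h1 h2 => by
    have hne : ω ^ m ≠ 1 := fun he => by
      obtain ⟨r, rfl⟩ := (hω.pow_eq_one_iff_dvd m).1 he
      rw [← mul_add_one] at h2
      have := Nat.lt_of_mul_lt_mul_left h1
      have := Nat.lt_of_mul_lt_mul_left h2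
      omega
    simp only [hS, pow_mul]
    rw [geom_sum_eq hne, ← pow_mul, mul_comm m n, pow_mul, hω.pow_eq_one, one_pow]
    simp
  set P0 : ℂ := c0 + (ε : ℂ) * (c1 * 2 + c2 * 2 + c4 * 2) with hP0
  have key : ∀ j, c0 * S j + (ε : ℂ) * (c1 * (S (1 + j) + S (n - 1 + j)) +
      c2 * (S (2 + j) + S (n - 2 + j)) + c4 * (S (4 + j) + S (n - 4 + j))) = P0 := by
    intro j
    simp only [hS, mul_add, Finset.mul_sum, ← Finset.sum_add_distrib, add_mul, pow_add]
    rw [Finset.sum_eq_single 0 ?_ (fun h' => absurd (Finset.mem_range.2 (by omega)) h')]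
    · simp only [mul_zero, pow_zero, hP0]; ring
    · intro i hi hi0
      linear_combination (ω ^ (j * i)) * h i (Finset.mem_Ico.2 ⟨by omega, Finset.mem_range.1 hi⟩)
  have e0 := key 0
  have e1 := key (n - 1)
  have e2 := key (n - 2)
  have e4 := key (n - 4)
  rw [hdvd 0 (dvd_zero n), hnd (1 + 0) 0 (by omega) (by omega), hnd (n - 1 + 0) 0 (by omega) (by omega),
    hnd (2 + 0) 0 (by omega) (by omega), hnd (n - 2 + 0) 0 (by omega) (by omega),
    hnd (4 + 0) 0 (by omega) (by omega), hnd (n - 4 + 0) 0 (by omega) (by omega)] at e0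
  rw [hnd (n - 1) 0 (by omega) (by omega), hdvd (1 + (n - 1)) ⟨1, by omega⟩,
    hnd (n - 1 + (n - 1)) 1 (by omega) (by omega), hnd (2 + (n - 1)) 1 (by omega) (by omega),
    hnd (n - 2 + (n - 1)) 1 (by omega) (by omega), hnd (4 + (n - 1)) 1 (by omega) (by omega),
    hnd (n - 4 + (n - 1)) 1 (by omega) (by omega)] at e1
  rw [hnd (n - 2) 0 (by omega) (by omega), hnd (1 + (n - 2)) 0 (by omega) (by omega),
    hnd (n - 1 + (n - 2)) 1 (by omega) (by omega), hdvd (2 + (n - 2)) ⟨1, by omega⟩,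
    hnd (n - 2 + (n - 2)) 1 (by omega) (by omega), hnd (4 + (n - 2)) 1 (by omega) (by omega),
    hnd (n - 4 + (n - 2)) 1 (by omega) (by omega)] at e2
  rw [hnd (n - 4) 0 (by omega) (by omega), hnd (1 + (n - 4)) 0 (by omega) (by omega),
    hnd (n - 1 + (n - 4)) 1 (by omega) (by omega), hnd (2 + (n - 4)) 0 (by omega) (by omega),
    hnd (n - 2 + (n - 4)) 1 (by omega) (by omega), hdvd (4 + (n - 4)) ⟨1, by omega⟩] at e4
  have h4 : S (n - 4 + (n - 4)) = 0 := by
    rcases Nat.lt_or_ge (2 * (n - 4)) n with h' | h'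
    · exact hnd _ 0 (by omega) (by omega)
    · rcases Nat.eq_or_lt_of_le h' with h'' | h''
      · obtain ⟨r, rfl⟩ := hodd
        omega
      · exact hnd _ 1 (by omega) (by omega)
  rw [h4] at e4
  have hnC : (n : ℂ) ≠ 0 := by exact_mod_cast (show n ≠ 0 by omega)
  have hεε : (ε : ℂ) * (ε : ℂ) = 1 := by rcases hε with rfl | rfl <;> simp
  have hne : (1 : ℂ) + 3 * (ε : ℂ) * (d : ℂ) ≠ 0 := by
    have : (1 : ℤ) + 3 * ε * d ≠ 0 := by rcases hε with rfl | rfl <;> omega
    exact_mod_cast this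
  have f1 : c1 = (ε : ℂ) * c0 := mul_left_cancel₀ hnC (by
    linear_combination (ε : ℂ) * (e1 - e0) - (n : ℂ) * c1 * hεε)
  have f2 : c2 = (ε : ℂ) * c0 := mul_left_cancel₀ hnC (by
    linear_combination (ε : ℂ) * (e2 - e0) - (n : ℂ) * c2 * hεε)
  have f4 : c4 = (ε : ℂ) * c0 := mul_left_cancel₀ hnC (by
    linear_combination (ε : ℂ) * (e4 - e0) - (n : ℂ) * c4 * hεε)
  rw [f1, f2, f4] at h0
  have hc0 : c0 = 0 := by
    rcases mul_eq_zero.1 (show c0 * ((1 : ℂ) + 3 * (ε : ℂ) * (d : ℂ)) = 0 by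
      linear_combination h0) with h' | h'
    · exact h'
    · exact absurd h' hne
  exact ⟨hc0, by rw [f1, hc0, mul_zero], by rw [f2, hc0, mul_zero], by rw [f4, hc0, mul_zero]⟩

theorem orbit : H76.CSy.OrbitStmt.{u} := by
  intro G _ _ p _ M₂ Mp hM₂ hMp hp2 P hP T h7 hrank
  classical
  haveI := Fintype.ofFinite G
  haveI := H20.isPrime_of_modular hM₂
  set n := Nat.card (P : Subgroup G) with hn
  obtain ⟨g, hg⟩ := hP.exists_generator
  have hgn : orderOf g = n := orderOf_eq_card_of_forall_mem_zpowers hg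
  have hnodd : Odd n := by
    obtain ⟨j, hj⟩ := IsPGroup.iff_card.1 P.isPGroup'
    rw [hn, hj]
    exact ((Fact.out : p.Prime).odd_of_ne_two hp2).pow
  set ω : ℂ := Complex.exp (2 * Real.pi * Complex.I / n) with hωdef
  have hω : IsPrimitiveRoot ω n := Complex.isPrimitiveRoot_exp n (by omega)
  have hω0 : ω ≠ 0 := hω.ne_zero (by omega)
  set ψ : (P : Subgroup G) →* ℂˣ := monoidHomOfForallMemZpowers (g' := Units.mk0 ω hω0) hg (by
    rw [hgn, ← orderOf_units]
    exact orderOf_dvd_of_pow_eq_one hω.pow_eq_one) with hψdef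
  have hψg : ψ g = Units.mk0 ω hω0 := monoidHomOfForallMemZpowers_apply_gen _ _
  have hψ : ψ ≠ 1 := fun h => hω.ne_one (by omega) (by
    have := congrArg Units.val ((DFunLike.congr_fun h g).symm.trans hψg)
    simpa using this.symm)
  refine ⟨ψ, hψ, fun hmem => ?_⟩
  set d := charDegree (T.ζ ψ : G → ℂ) with hd
  have hval : ∀ i ∈ Finset.Ico 1 n, (T.ζ ψ : G → ℂ) ((g ^ i : (P : Subgroup G)) : G) =
      (T.ε : ℂ) * (ω ^ i + (ω ^ i)⁻¹) := by
    intro i hi
    obtain ⟨hi1, hi2⟩ := Finset.mem_Ico.1 hi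
    have hu : g ^ i ≠ 1 := fun h => by
      have := Nat.le_of_dvd (by omega) (orderOf_dvd_of_pow_eq_one h)
      omega
    have h := T.ζ_sing ψ hψ (g ^ i) hu 1 (Commute.one_right _)
      (by simp [(Fact.out : p.Prime).ne_one])
    rw [mul_one] at h
    rw [h, map_pow, hψg]
    simp
  have hgal : ∀ a : ℕ, Nat.Coprime a n → a ≤ n → ∃ χ : IrrCharacter G, χ ∈ principalBlock M₂ G ∧
      (χ : G → ℂ) 1 = (d : ℂ) ∧ ∀ i ∈ Finset.Ico 1 n,
        (χ : G → ℂ) ((g ^ i : (P : Subgroup G)) : G) =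
          (T.ε : ℂ) * (ω ^ (a * i) + ω ^ ((n - a) * i)) := by
    intro a ha han
    obtain ⟨σ, hσ⟩ := H25.exists_ringEquiv_pow_rootOfUnity n a (by omega) ha
    refine ⟨H24.galIrr σ (T.ζ ψ), H24.galIrr_mem_principalBlock hM₂ σ hmem, ?_, fun i hi => ?_⟩
    · rw [H24.galIrr_apply, H24.irr_one, map_natCast]
    · rw [H24.galIrr_apply, hval i hi, map_mul, map_intCast, map_add, map_inv₀, map_pow,
        hσ ω hω.pow_eq_one, ← pow_mul]
      congr 2
      refine inv_eq_of_mul_eq_one_right ?_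
      rw [← pow_add, ← add_mul, Nat.add_sub_cancel' han, pow_mul, hω.pow_eq_one, one_pow]
  have h2 : Nat.Coprime 2 n := Nat.coprime_two_left.2 hnodd
  obtain ⟨χ1, hm1, hd1, hv1⟩ := hgal 1 (Nat.coprime_one_left _) (by omega)
  obtain ⟨χ2, hm2, hd2, hv2⟩ := hgal 2 h2 (by omega)
  obtain ⟨χ4, hm4, hd4, hv4⟩ := hgal 4 (h2.pow_left 2) (by omega)
  set F : Fin 4 → IrrCharacter G := ![H12.oneIrr G, χ1, χ2, χ4] with hF
  set v : Fin 4 → (G → ℂ) := fun i => pRegularPart 2 (F i : G → ℂ) with hv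
  have hmemv : ∀ i, v i ∈ Submodule.span ℂ
      ((fun χ : IrrCharacter G => pRegularPart 2 (χ : G → ℂ)) '' principalBlock M₂ G) := fun i =>
    Submodule.subset_span ⟨F i, by
      fin_cases i
      exacts [H20.mem_blockOf_self (H12.oneIrr G), hm1, hm2, hm4], rfl⟩
  have hreg : ∀ u : (P : Subgroup G), IsPRegular 2 (u : G) := fun u hdv => by
    rw [Subgroup.orderOf_coe] at hdv
    exact hnodd.not_two_dvd_nat (hdv.trans (orderOf_dvd_natCard _))
  have hli : LinearIndependent ℂ v := by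
    refine Fintype.linearIndependent_iff.2 fun c hc => ?_
    have hev : ∀ i : ℕ, c 0 * (F 0 : G → ℂ) ((g ^ i : (P : Subgroup G)) : G) +
        c 1 * (χ1 : G → ℂ) ((g ^ i : (P : Subgroup G)) : G) +
        c 2 * (χ2 : G → ℂ) ((g ^ i : (P : Subgroup G)) : G) +
        c 3 * (χ4 : G → ℂ) ((g ^ i : (P : Subgroup G)) : G) = 0 := by
      intro i
      have h := congrFun hc ((g ^ i : (P : Subgroup G)) : G)
      simp only [hv, pRegularPart, if_pos (hreg _), Finset.sum_apply, Pi.smul_apply, smul_eq_mul,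
        Fin.sum_univ_four, Pi.zero_apply] at h
      exact h
    obtain ⟨a0, a1, a2, a3⟩ := coeff_eq_zero h7 hnodd hω T.ε (d : ℤ) T.ε_eq (c 0) (c 1) (c 2) (c 3)
      (by
        have h := hev 0
        simp only [pow_zero, OneMemClass.coe_one, hd1, hd2, hd4] at h
        rw [show (F 0 : G → ℂ) 1 = 1 by simp [hF, H12.oneIrr_apply]] at h
        push_cast
        linear_combination h)
      (fun i hi => by
        have h := hev i
        rw [hv1 i hi, hv2 i hi, hv4 i hi,
          show (F 0 : G → ℂ) ((g ^ i : (P : Subgroup G)) : G) = 1 by simp [hF, H12.oneIrr_apply]] at h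
        linear_combination h)
    intro i
    fin_cases i
    exacts [a0, a1, a2, a3]
  have h4 : 4 ≤ blockRank 2 (principalBlock M₂ G) := by
    rw [blockRank]
    refine le_trans ?_ (Submodule.finrank_mono (Submodule.span_le.2
      (Set.range_subset_iff.2 hmemv)))
    rw [finrank_span_eq_card hli, Fintype.card_fin]
  omega

end H12.CSy
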