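import Cfsg.Agent.H12.CSy.Basic
import Cfsg.Agent.H12.CSy.Orbit
import Cfsg.Agent.H12.CSy.BorelMean

/-!
# Module C of S4069: `H12.CSy.mean`, `rank`, `orbit`, `borelMean`
-/
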